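import Cfsg.Agent.TAB.F24.G.Wd_m3
import Cfsg.Agent.TAB.F23C.C0_m3
import Cfsg.Agent.TAB.F23C.S75_m3
import Cfsg.Agent.TAB.F23C.Pw_m3
import Cfsg.Agent.TAB.Big.Gen_m3
import Cfsg.Agent.S0157
import Cfsg.Agent.Prune
set_option linter.all false

-- part: TAB/F24C/E63
section
set_option linter.all false

/-!
# `Fi₂₄` : the centralizer of the type 63 (helper96, TAB; generated by notes/TAB/F24/gen96.cpp)
-/

set_option autoImplicit false
set_option maxRecDepth 100000
set_option Elab.async false

namespace Cfsg.Agent.TAB.F24C.E63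

open Cfsg.Agent.TAB.PE Cfsg.Agent.TAB.CE
open Cfsg.Agent.Fischer.Fi24Rep (rho)
open Cfsg.Spor

/-- data -/
noncomputable def L : ℕ := 0x4842b4838f4750045a3543a903f6ef3ed273d0f439a77373c23709834574320bb3206531a32316342dae72b28f2b1e92ab9b2749025d1a211241e8941e5511cc370c6420b65c07af6071de05bd1059e7029a2

/-- data -/
noncomputable def X : ℕ := 0x1c00b01a00e01b01101300700901d01201401601501f01900c00101e00301002000201800a01700500600000400d00800f

theorem hi : Inj 33 L := inj_of (by decide +kernel)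

theorem px_0 : tbB (ap 0x6415374a8629b153 1) 33 L X [0, 1, 2, 3, 4, 5] = true := by decide +kernel

theorem hx : Tb rho 33 L (el 0x6415374a8629b153 ^ 1) (gt X) :=
  tb_of (nb := 6) hi (acts 0x6415374a8629b153 1)
    (Pl.app px_0 Pl.nil) (by decide +kernel)

/-- data -/
noncomputable def c0 : ℕ := 0xca84293bac64b9586b7c869b7586b75864b75364975869b7c86b7569b7586a79876543c2b3645c6b7c869b75864b75a864975a8697384b

/-- data -/
noncomputable def T0 : ℕ := 0x701100300200401d01201e01801301c00b00100000a00f00501901402000900d01f00c01700800601001b01a00e016015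

/-- data -/
noncomputable def U0 : ℕ := 0xd00a01901b01600400300f01800800100000e01701a01f00501100200b00901501200c00702000601001c01e01d014013

theorem k0 : cjB cx (apN (ap 0x6415374a8629b153 1) 2) (apN (ap 0x6415374a8629b153 1) 2) c0 = true := by decide +kernel

theorem p0_0 : tbB (aw c0) 33 L T0 [0, 1, 2, 3] = true := by decide +kernel

theorem p0_1 : tbB (aw c0) 33 L T0 [4, 5] = true := by decide +kernel

theorem g0 : el c0 ∈ Subgroup.centralizer {(el 0x6415374a8629b153 ^ 1) ^ 2} ∧ Tb rho 33 L (el c0) (gt T0) :=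
  gen_ok (nb := 6) ((acts 0x6415374a8629b153 1).pow 2) k0 hi
    (Pl.app p0_0 (Pl.app p0_1 Pl.nil)) (by decide +kernel)

theorem i0 : invB 33 T0 U0 = true := by decide +kernel

/-- data -/
noncomputable def c1 : ℕ := 0xb756576857c6b5637a8495c86b7c869b756a159248b537c46b5c64b753641b758642b736495a869b7c869b75a8649b753c8649b75328641375284b1

/-- data -/
noncomputable def T1 : ℕ := 0x701101601501701d01201e00901301c00b02001f01b00e00c00d01400101001900000500401a01800600a00800f003002

/-- data -/
noncomputable def U1 : ℕ := 0x1401301901b01601200700b00601c01e01d00e01701a01f00c00201100f01001500401800302000500900800100000d00a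

theorem k1 : cjB cx (apN (ap 0x6415374a8629b153 1) 2) (apN (ap 0x6415374a8629b153 1) 2) c1 = true := by decide +kernel

theorem p1_0 : tbB (aw c1) 33 L T1 [0, 1, 2, 3] = true := by decide +kernel

theorem p1_1 : tbB (aw c1) 33 L T1 [4, 5] = true := by decide +kernel

theorem g1 : el c1 ∈ Subgroup.centralizer {(el 0x6415374a8629b153 ^ 1) ^ 2} ∧ Tb rho 33 L (el c1) (gt T1) :=
  gen_ok (nb := 6) ((acts 0x6415374a8629b153 1).pow 2) k1 hi
    (Pl.app p1_0 (Pl.app p1_1 Pl.nil)) (by decide +kernel)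

theorem i1 : invB 33 T1 U1 = true := by decide +kernel

/-- words -/
noncomputable def ws : List ℕ := [1, 2, 21, 12, 8, 29, 11, 7, 33, 31, 47, 120, 10, 5, 0, 13, 14, 3]

theorem lv : levB 33 (fun i => i) (fun i => i) X 4 [T0, U0, T1, U1] [U0, T0, U1, T1] [0, 5, 16] ws 18 = true := by
  decide +kernel

theorem cen [Finite Fi24] (hy : Nat.card (Subgroup.centralizer ({(el 0x6415374a8629b153 ^ 1) ^ 2} : Set Fi24)) ≤ 1944) :
    Nat.card (Subgroup.centralizer ({el 0x6415374a8629b153 ^ 1} : Set Fi24)) ≤ 108 :=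
  cen_one hi hx (.cons g0 (.cons (gen_inv g0 i0) (.cons g1 (.cons (gen_inv g1 i1) .nil)))) lv hy (by norm_num)

end Cfsg.Agent.TAB.F24C.E63
end

-- part: TAB/F24C/E67
section
set_option linter.all false

/-!
# `Fi₂₄` : the centralizer of the type 67 (helper96, TAB; generated by notes/TAB/F24/gen96.cpp)
-/

set_option autoImplicit false
set_option maxRecDepth 100000
set_option Elab.async false

namespace Cfsg.Agent.TAB.F24C.E67

open Cfsg.Agent.TAB.PE Cfsg.Agent.TAB.CE
open Cfsg.Agent.Fischer.Fi24Rep (rho)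
open Cfsg.Spor

/-- data -/
noncomputable def L : ℕ := 0x440373e9973e4c83914534ebd3483a32da72d0472af892acc629d892900f286e626ec12680122f6f200751e24c1d75d1b8fd14522

/-- data -/
noncomputable def X : ℕ := 0xe00000f00601300300900100b00200801400400d00501100a01200c007010

theorem hi : Inj 21 L := inj_of (by decide +kernel)

theorem px_0 : tbB (ap 0x8b74635c4b1736251c64a279 1) 21 L X [0, 1, 2, 3, 4] = true := by decide +kernel

theorem hx : Tb rho 21 L (el 0x8b74635c4b1736251c64a279 ^ 1) (gt X) :=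
  tb_of (nb := 5) hi (acts 0x8b74635c4b1736251c64a279 1)
    (Pl.app px_0 Pl.nil) (by decide +kernel)

/-- data -/
noncomputable def c0 : ℕ := 0x97568579c683b576456b7364586b7c869b7586b7586a59485763b5c64b7538641b75642b536475c6b7c869b75a8649b75864b753649b58c64b752a8639

/-- data -/
noncomputable def T0 : ℕ := 0x1000500300600f01201400c00a00800900b01101300e00400700200100d

/-- data -/
noncomputable def U0 : ℕ := 0xd00600e00701300f00500000c00800b00900a003010012004011002001014

theorem k0 : cjB cx (apN (ap 0x8b74635c4b1736251c64a279 1) 3) (apN (ap 0x8b74635c4b1736251c64a279 1) 3) c0 = true := by decide +kernel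

theorem p0_0 : tbB (aw c0) 21 L T0 [0, 1, 2, 3] = true := by decide +kernel

theorem p0_1 : tbB (aw c0) 21 L T0 [4] = true := by decide +kernel

theorem g0 : el c0 ∈ Subgroup.centralizer {(el 0x8b74635c4b1736251c64a279 ^ 1) ^ 3} ∧ Tb rho 21 L (el c0) (gt T0) :=
  gen_ok (nb := 5) ((acts 0x8b74635c4b1736251c64a279 1).pow 3) k0 hi
    (Pl.app p0_0 (Pl.app p0_1 Pl.nil)) (by decide +kernel)

theorem i0 : invB 21 T0 U0 = true := by decide +kernel

/-- data -/
noncomputable def c1 : ℕ := 0xb53c4b586b7c861b75a2649b753c864b7569b7c869b7586748b5964ab759683746b5c64b75364b75864b7562534b5c69b7ac869b75864b75c86b75ac649b5a8693b72a4c861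

/-- data -/
noncomputable def T1 : ℕ := 0x300700600200500400101200800d01100a00e00c01400900000b01001300f

/-- data -/
noncomputable def U1 : ℕ := 0x600100d00a00200000800b00700300900500c01301201000f01401100e004

theorem k1 : cjB cx (apN (ap 0x8b74635c4b1736251c64a279 1) 3) (apN (ap 0x8b74635c4b1736251c64a279 1) 3) c1 = true := by decide +kernel

theorem p1_0 : tbB (aw c1) 21 L T1 [0, 1, 2] = true := by decide +kernel

theorem p1_1 : tbB (aw c1) 21 L T1 [3, 4] = true := by decide +kernel

theorem g1 : el c1 ∈ Subgroup.centralizer {(el 0x8b74635c4b1736251c64a279 ^ 1) ^ 3} ∧ Tb rho 21 L (el c1) (gt T1) :=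
  gen_ok (nb := 5) ((acts 0x8b74635c4b1736251c64a279 1).pow 3) k1 hi
    (Pl.app p1_0 (Pl.app p1_1 Pl.nil)) (by decide +kernel)

theorem i1 : invB 21 T1 U1 = true := by decide +kernel

/-- words -/
noncomputable def ws : List ℕ := [751, 892, 11998, 135, 818, 546, 3192, 3550, 237, 3575, 15307, 479, 11767, 145, 978, 977, 36, 146, 244,
  2955, 907, 221, 56828, 14216, 1931, 55, 222, 3629, 1975, 2, 3551, 797, 20, 1937, 14219, 12845, 7919,
  734, 738, 209, 7672, 2030, 11, 11746, 1927, 11745, 45, 46, 2952, 2936, 507, 4, 51084, 56823, 2029, 15308,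
  125, 3566, 47, 7906, 3255, 14220, 493, 8750, 11748, 802, 203, 3025, 2002, 1915, 49, 1979, 31698, 759,
  2171, 140, 7903, 557, 3053, 503, 3576, 7650, 7647, 14204, 56824, 63, 3553, 3572, 14283, 1938, 798, 12846,
  210, 183, 7922, 184, 3634, 14205, 81, 0, 2941, 30, 3000, 956, 122414, 228, 749, 2951, 8, 11742, 223,
  13, 14269, 124, 2962, 477, 478, 46967, 188, 187876, 3567, 60, 239, 952, 740, 498, 119, 11768, 3, 894,
  48059, 914, 29, 2252, 11741, 34, 187, 3196, 735, 3826, 3825, 750, 2935, 9010, 30603, 893, 2942, 14, 913,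
  33, 903, 7, 760, 508, 3042, 3041, 34679, 2034, 481, 46968, 482, 56827, 2033, 120, 14215, 136, 495, 3256,
  238, 204, 541, 887, 7646, 2956, 1917, 2999, 30604, 3026, 494, 813, 15303, 200, 500, 2187, 1976, 891,
  50, 189, 126, 3212, 3579, 7917, 8734, 14226, 2167, 225, 8733, 8669, 3556, 56, 2183, 1996, 14225, 15,
  1932, 8670, 226, 11772, 127, 7649, 3038, 888, 2236, 3003, 763, 562, 31697, 8753, 48060, 904, 8119, 8135,
  139, 7908, 52, 733, 199, 1980, 908, 484, 34680, 737, 14206, 1, 82, 3211, 190, 2001, 7905, 3004, 46994,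
  3271, 756, 12, 123, 31, 31623, 7662, 814, 12155, 764, 7918, 3554, 2013, 3037, 12015, 2251, 1912, 504,
  2172, 2188, 12014, 3054, 191, 7924, 35015, 558, 14305, 1918, 817, 11743, 545, 59, 12770, 3570, 56861,
  1981, 542, 3549, 1911]

theorem lv : levB 21 (fun i => i) (fun i => i) X 4 [T0, U0, T1, U1] [U0, T0, U1, T1] [0, 5, 3, 1] ws 280 = true := by
  decide +kernel

theorem cen [Finite Fi24] (hy : Nat.card (Subgroup.centralizer ({(el 0x8b74635c4b1736251c64a279 ^ 1) ^ 3} : Set Fi24)) ≤ 35280) :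
    Nat.card (Subgroup.centralizer ({el 0x8b74635c4b1736251c64a279 ^ 1} : Set Fi24)) ≤ 126 :=
  cen_one hi hx (.cons g0 (.cons (gen_inv g0 i0) (.cons g1 (.cons (gen_inv g1 i1) .nil)))) lv hy (by norm_num)

end Cfsg.Agent.TAB.F24C.E67
end

-- part: TAB/F24C/E68
section
set_option linter.all false

/-!
# `Fi₂₄` : the centralizer of the type 68 (helper96, TAB; generated by notes/TAB/F24/gen96.cpp)
-/

set_option autoImplicit false
set_option maxRecDepth 100000
set_option Elab.async false

namespace Cfsg.Agent.TAB.F24C.E68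

open Cfsg.Agent.TAB.PE Cfsg.Agent.TAB.CE
open Cfsg.Agent.Fischer.Fi24Rep (rho)
open Cfsg.Spor

/-- data -/
noncomputable def L : ℕ := 0x4aa8b4a55949a57498d148650480984802c47e8147a964780d47561473454456c442d54309942ae14134d40d5f40a243f9873e2a23e2603d23c3c3433b2a93b2913a4c73971538595378fd37503373bc36f2636f1836d3e36ad03225e3218f2f7852e81c2e6062e5102d34c2c6c128c0028a552855c27592274252591424fa12323822e98228731f9141c4221b6851a6241a36e1760c165cf155f4155ae14fe414e8d14c1d13eea13622130bd1309212ec2129d00fc8f0f2fa0ea030e0020ce250cce80cafa0bd300b0d409dc4097af094dc093cc0922c090e9090310607605b1e054f4053ad05301048d5034a502823023d001a06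

/-- data -/
noncomputable def X : ℕ := 0x1001700800102901906103600f00200500900700600300401202f01e01301404d05102e05403104501803902003e03503304005204905e05902305d05a04301d03004105704203b05503402204f03701c05c02804e05304804701105601602d03d00a03803c02a03a00c05f04c04b04600d06002101501f00e02502605b01b04a02705003202c02401a03f04402b05800b

theorem hi : Inj 98 L := inj_of (by decide +kernel)

theorem px_0 : tbB (ap 0x62b7318a4c27953b4c68a795 1) 98 L X [0, 1, 2, 3, 4, 5, 6] = true := by decide +kernel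

theorem hx : Tb rho 98 L (el 0x62b7318a4c27953b4c68a795 ^ 1) (gt X) :=
  tb_of (nb := 7) hi (acts 0x62b7318a4c27953b4c68a795 1)
    (Pl.app px_0 Pl.nil) (by decide +kernel)

/-- data -/
noncomputable def c0 : ℕ := 0x7c649b5ac69b7c86b75641b7526453475c69b7c86b75678a948576b5c64b753864b75c86b75c649b586b7a629538475ac69b7c86b769b51a8642b1

/-- data -/
noncomputable def T0 : ℕ := 0x702800900f05e02403c00601b03a01605504703304502301e02f03900a01502003b04304004600502c05a05005103105806104903005c05604d01301a01c02b05d03e04b01100c00302100804801904c02703f06005700e03805f05405b04e01d01002202602d01804101702502a03200200100b05205901402e04200403501201f03704403400003d04f05303604a00d029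

/-- data -/
noncomputable def U0 : ℕ := 0x4002902505d03603d02304501204102803c05602400401304304400502203b02c03400203f02e05504805300904a00f01b04902a03500605b04b05804f02600a00300d00805401704203e05001001d04603701800006002b01e01905c05201f03004c00b05102103805903902d01c01a05704d01103a00c03302005e02700103201404e05f02f06105a04700e031016015007

theorem k0 : cjB cx (apN (ap 0x62b7318a4c27953b4c68a795 1) 3) (apN (ap 0x62b7318a4c27953b4c68a795 1) 3) c0 = true := by decide +kernel

theorem p0_0 : tbB (aw c0) 98 L T0 [0, 1, 2, 3] = true := by decide +kernel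

theorem p0_1 : tbB (aw c0) 98 L T0 [4, 5, 6] = true := by decide +kernel

theorem g0 : el c0 ∈ Subgroup.centralizer {(el 0x62b7318a4c27953b4c68a795 ^ 1) ^ 3} ∧ Tb rho 98 L (el c0) (gt T0) :=
  gen_ok (nb := 7) ((acts 0x62b7318a4c27953b4c68a795 1).pow 3) k0 hi
    (Pl.app p0_0 (Pl.app p0_1 Pl.nil)) (by decide +kernel)

theorem i0 : invB 98 T0 U0 = true := by decide +kernel

/-- data -/
noncomputable def c1 : ℕ := 0x7658495c86b7c869b75864b752c864b7536495c86b7c869b75864b756a798b57c463b5c642b75364b75869b7ac869b75864b756453c84b73c8629b751ac6427b951a642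

/-- data -/
noncomputable def T1 : ℕ := 0xc04b01f02c04604f04305502905703a00202603e04204a03c00a01804105300d00b02300904d01c05003b03d03502006003201a03700101e01400003f04704404802b02701706101002403303001102d01303901b05805d02104500f02802500403405e05600e00504003805a01904901504e01d01600700305f04c00800602a01203105c05402f03605105b02e052022059

/-- data -/
noncomputable def U1 : ℕ := 0x3204101001f02700900401900002805801e05a00804d00200504605c01504800f06005201703603805d02503705b05304e01b03905404405104505702a01a03e00604302002f04000a02e00700302c05e03500c05902303405502203004a00102604205f03c01404702903f01804f03301301603b02b00b02d03102401d04c06104b05004900e01200d01c02101105603d03a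

theorem k1 : cjB cx (apN (ap 0x62b7318a4c27953b4c68a795 1) 3) (apN (ap 0x62b7318a4c27953b4c68a795 1) 3) c1 = true := by decide +kernel

theorem p1_0 : tbB (aw c1) 98 L T1 [0, 1, 2] = true := by decide +kernel

theorem p1_1 : tbB (aw c1) 98 L T1 [3, 4, 5] = true := by decide +kernel

theorem p1_2 : tbB (aw c1) 98 L T1 [6] = true := by decide +kernel

theorem g1 : el c1 ∈ Subgroup.centralizer {(el 0x62b7318a4c27953b4c68a795 ^ 1) ^ 3} ∧ Tb rho 98 L (el c1) (gt T1) :=
  gen_ok (nb := 7) ((acts 0x62b7318a4c27953b4c68a795 1).pow 3) k1 hi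
    (Pl.app p1_0 (Pl.app p1_1 (Pl.app p1_2 Pl.nil))) (by decide +kernel)

theorem i1 : invB 98 T1 U1 = true := by decide +kernel

/-- words -/
noncomputable def ws : List ℕ := [8059, 495, 4604, 751, 3832, 7, 2031, 2171, 49, 8060, 55, 543, 764, 4603, 190, 763, 187, 46, 124, 1982,
  7931, 31, 957, 12, 2033, 71, 183, 59, 3631, 908, 203, 17, 30, 34, 8, 814, 126, 1147, 8136, 907, 1148,
  136, 541, 503, 507, 0, 952, 76, 1996, 125, 50, 72, 14, 47, 1149, 285, 4, 498, 286, 958, 11, 4599, 184,
  29, 135, 2941, 1150, 75, 140, 45, 287, 542, 951, 1, 3, 497, 15, 2248, 123, 252, 226, 239, 56, 2014, 18,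
  561, 33, 60, 508, 62, 2, 735, 2942, 813, 237, 8685, 13, 188]

theorem lv : levB 98 (fun i => i) (fun i => i) X 4 [T0, U0, T1, U1] [U0, T0, U1, T1] [35, 33] ws 98 = true := by
  decide +kernel

theorem cen [Finite Fi24] (hy : Nat.card (Subgroup.centralizer ({(el 0x62b7318a4c27953b4c68a795 ^ 1) ^ 3} : Set Fi24)) ≤ 4116) :
    Nat.card (Subgroup.centralizer ({el 0x62b7318a4c27953b4c68a795 ^ 1} : Set Fi24)) ≤ 42 :=
  cen_one hi hx (.cons g0 (.cons (gen_inv g0 i0) (.cons g1 (.cons (gen_inv g1 i1) .nil)))) lv hy (by norm_num)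

end Cfsg.Agent.TAB.F24C.E68
end

-- part: TAB/F23C/Box
section
set_option linter.all false
open scoped Cfsg.Agent.FastGrp

/-!
# `Fi₂₃` : the types are the orbits of the representatives (helper21, TAB)
-/

set_option autoImplicit false
set_option maxRecDepth 100000

namespace Cfsg.Agent.TAB.F23C

open Cfsg Cfsg.Agent.TAB.PE Cfsg.Agent.TAB.Eng Cfsg.Agent.TAB.F23
open Cfsg.Agent.Fischer.Fi23Hom (rho)
open Cfsg.Spor
open Subgroup (centralizer zpowers)

section
variable {G : Type} [Group G] [Finite G]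

/-- an element of prime order is not conjugate to its power by a primitive root -/
theorem not_conj_root {p r c : ℕ} (hp : p.Prime) (h2 : ¬ p ^ 2 ∣ Nat.card G) {x : G} (hx : orderOf x = p)
    (hc : Nat.card (centralizer ({x} : Set G)) = c) (hk : (Nat.card G / c + 1) % p ≠ 0)
    (hr : ∀ i < p, i ≠ 0 → ∃ j < p, r ^ j % p = i) : ¬ IsConj x (x ^ r) := by
  intro h
  have h1 : ∀ j, IsConj x (x ^ r ^ j) := by
    intro j
    induction j with
    | zero => rw [pow_zero, pow_one]
    | succ j ih =>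
      refine ih.trans ?_
      rw [pow_succ', pow_mul]
      exact h.pow _
  have h3 : ∀ y : G, orderOf y = p ↔ IsConj x y := by
    intro y
    constructor
    · intro hy
      obtain ⟨k, hk1, -⟩ := Big.exists_conj hp h2 hx hy
      obtain ⟨i, hi⟩ := (mem_powers_iff_mem_zpowers.2 hk1 : _ ∈ Submonoid.powers x)
      have h4 : x ^ (i % p) = k * y * k⁻¹ := by rw [← hx, pow_mod_orderOf]; exact hi
      obtain ⟨j, -, hj⟩ := hr _ (Nat.mod_lt i hp.pos) fun h0 => by
        have h5 := (orderOf_conj' y k).trans hy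
        rw [← h4, h0, pow_zero, orderOf_one] at h5
        exact hp.one_lt.ne h5
      have h5 := h1 j
      rw [← pow_mod_orderOf, hx, hj, h4] at h5
      exact h5.trans (isConj_iff.2 ⟨k, rfl⟩ : IsConj y _).symm
    · intro hy
      rw [ord_conj hy, hx]
  have h4 := Big.dvd_card_order hp (hx ▸ orderOf_dvd_natCard x)
  have h5 := card_class x
  rw [hc] at h5
  rw [Nat.card_congr (Equiv.subtypeEquivRight h3),
    ← Nat.div_eq_of_eq_mul_left (hc ▸ Nat.card_pos) h5.symm] at h4
  exact hk (Nat.mod_eq_zero_of_dvd h4)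

theorem rl_conj_pow {a b : G} (h : Rl a b) {m : ℕ} (hb : IsConj b (b ^ m)) : IsConj a (a ^ m) := by
  obtain ⟨k, -, h1⟩ := h.symm
  have h2 := (hb.pow k).trans (show IsConj ((b ^ m) ^ k) (a ^ m) by
    rw [← pow_mul, mul_comm, pow_mul]; exact h1.pow m)
  exact h1.symm.trans h2

end

/-- the orders of the centralizers -/
def cL : List ℕ := [4089470473293004800, 318504960, 73574645760, 129123503308800, 944784, 37791360, 1632586752,
  13756055040, 36864, 92160, 331776, 5806080, 25200, 34992, 1296, 3888, 5184, 15552, 62208, 10368, 41472, 373248,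
  5038848, 248832, 155520, 622080, 39191040, 840, 384, 384, 384, 162, 5832, 5832, 1458, 17496, 240, 240, 1200, 44,
  72, 144, 288, 432, 864, 3456, 1152, 216, 288, 1152, 576, 3456, 2592, 8640, 2592, 78, 56, 84, 360, 90, 32, 17, 54,
  216, 216, 324, 216, 648, 54, 216, 40, 120, 42, 44, 44, 23, 48, 48, 48, 26, 27, 28, 120, 60, 30, 35, 36, 36, 39, 42,
  60, 279936]

theorem card23 : Nat.card Fi23 = 4089470473293004800 := Fischer.Fi23Simple.card_Fi23

theorem c0 : Cen 0 4089470473293004800 :=
  have := fin23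
  (Subgroup.card_le_card_group _).trans card23.le

theorem all_of_forall₂ {P : ℕ → ℕ → Prop} : ∀ {l : List ℕ} {s : ℕ}, List.Forall₂ P (List.range' s l.length) l →
    ∀ i < l.length, P (s + i) (l.getD i 0)
  | [], _, _, _, hi => absurd hi (by simp)
  | _ :: l, s, h, i, hi => by
    cases h with
    | cons h1 h2 =>
      cases i with
      | zero => exact h1
      | succ i =>
        have h3 := all_of_forall₂ (s := s + 1) h2 i (Nat.lt_of_succ_lt_succ hi)
        rwa [Nat.add_right_comm] at h3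

theorem cen_all : ∀ i < 92, Cen i (cL.getD i 0) := fun i hi => by
  have h := all_of_forall₂ (P := Cen) (l := cL) (s := 0) (
    .cons c0 <| .cons c1 <| .cons c2 <| .cons c3 <| .cons c4 <| .cons c5 <| .cons c6 <| .cons c7 <| .cons c8 <|
    .cons c9 <| .cons c10 <| .cons c11 <| .cons c12 <| .cons c13 <| .cons c14 <| .cons c15 <| .cons c16 <| .cons
    c17 <| .cons c18 <| .cons c19 <| .cons c20 <| .cons c21 <| .cons c22 <| .cons c23 <| .cons c24 <| .cons c25 <|
    .cons c26 <| .cons c27 <| .cons c28 <| .cons c29 <| .cons c30 <| .cons c31 <| .cons c32 <| .cons c33 <| .cons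
    c34 <| .cons c35 <| .cons c36 <| .cons c37 <| .cons c38 <| .cons c39 <| .cons c40 <| .cons c41 <| .cons c42 <|
    .cons c43 <| .cons c44 <| .cons c45 <| .cons c46 <| .cons c47 <| .cons c48 <| .cons c49 <| .cons c50 <| .cons
    c51 <| .cons c52 <| .cons c53 <| .cons c54 <| .cons c55 <| .cons c56 <| .cons c57 <| .cons c58 <| .cons c59 <|
    .cons c60 <| .cons c61 <| .cons c62 <| .cons c63 <| .cons c64 <| .cons c65 <| .cons c66 <| .cons c67 <| .cons
    c68 <| .cons c69 <| .cons c70 <| .cons c71 <| .cons c72 <| .cons c73 <| .cons c74 <| .cons c75 <| .cons c76 <|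
    .cons c77 <| .cons c78 <| .cons c79 <| .cons c80 <| .cons c81 <| .cons c82 <| .cons c83 <| .cons c84 <| .cons
    c85 <| .cons c86 <| .cons c87 <| .cons c88 <| .cons c89 <| .cons c90 <| .cons c91 <|
    .nil) i hi
  rwa [Nat.zero_add] at h

theorem x_zero : x23 0 = 1 := by
  rw [x_eq (i := 0) (c := 0) (d := 1) (by decide +kernel), pow_one]
  rfl

theorem okOrb23 : okOrb D = true := by decide +kernel

private def mkF {α : Type} (l : List (ℕ × ℕ × α)) : ℕ :=
  l.foldr (fun a m => Nat.lor m (Nat.shiftLeft 1 (a.1 + 92 * a.2.1))) 0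

private theorem mkF_mem {α : Type} {l : List (ℕ × ℕ × α)} {k : ℕ} (h : (mkF l).testBit k = true) :
    ∃ a ∈ l, a.1 + 92 * a.2.1 = k := by
  induction l with
  | nil => exact absurd ((Nat.zero_testBit k).symm.trans h) Bool.false_ne_true
  | cons a l ih =>
    have h1 : (mkF l ||| 1 <<< (a.1 + 92 * a.2.1)).testBit k = true := h
    rw [Nat.testBit_or, Bool.or_eq_true, Nat.one_shiftLeft, Nat.testBit_two_pow] at h1
    rcases h1 with h1 | h1
    · obtain ⟨b, hb, e⟩ := ih h1
      exact ⟨b, List.mem_cons_of_mem _ hb, e⟩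
    · exact ⟨a, List.mem_cons_self, of_decide_eq_true h1⟩

theorem pw_cover : ∀ i < 92, ∀ p ∈ PL, p ∣ D.ord i →
    ∃ a ∈ pc0 ++ pc1 ++ pc2 ++ pc3 ++ pc4 ++ pc5 ++ pc6 ++ pc7, a.1 = i ∧ a.2.1 = p := fun i hi p hp hd => by
  have h : (∀ a ∈ pc0 ++ pc1 ++ pc2 ++ pc3 ++ pc4 ++ pc5 ++ pc6 ++ pc7, a.1 < 92) ∧ ∀ i < 92, ∀ p ∈ PL, p ∣ D.ord i →
      (mkF (pc0 ++ pc1 ++ pc2 ++ pc3 ++ pc4 ++ pc5 ++ pc6 ++ pc7)).testBit (i + 92 * p) = true := by decide +kernel
  obtain ⟨a, ha, e⟩ := mkF_mem (h.2 i hi p hp hd)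
  have h1 := h.1 a ha
  refine ⟨a, ha, ?_⟩
  generalize a.1 = x, a.2.1 = y at e h1 ⊢
  clear * - e h1 hi
  omega

theorem pwC : PwC D x23 := by
  intro i hi p hp hd
  obtain ⟨a, ha, rfl, rfl⟩ := pw_cover i hi p hp hd
  refine pwB_spec (List.all_eq_true.1 ?_ a ha)
  simp only [List.all_append, pw0, pw1, pw2, pw3, pw4, pw5, pw6, pw7, Bool.and_self]

theorem fix_all : ∀ i < 92, fixc cx rho (x23 i) = (nth sd1 i).toNat := by
  intro i hi
  have h : (List.range' 0 23 ++ List.range' 23 23 ++ List.range' 46 23 ++ List.range' 69 23).all fxB = true := by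
    simp only [List.all_append, fx0, fx1, fx2, fx3, Bool.and_self]
  refine fxB_spec (List.all_eq_true.1 h i ?_)
  simp only [List.mem_append, List.mem_range'_1]
  omega

theorem ord_pw : (∀ i < D.n, orderOf (x23 i) = D.ord i) ∧ Pw D x23 := by
  have := fin23
  refine ord_of okOrb23 x_zero pwC fun i hi hp h => ?_
  have h1 := fix_all i hi
  rw [h, ← x_zero, fix_all 0 (by norm_num)] at h1
  exact (by decide +kernel : ∀ i < 92, D.ord i ∈ PL → (nth sd1 0).toNat ≠ (nth sd1 i).toNat) i hi hp h1

theorem rat_of {i n : ℕ} (hi : i < 92) (hn : D.ord i = n) (h0 : 0 < n)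
    (h : ∀ k < n, Nat.Coprime k n → k = 1 ∨ ∃ a ∈ rt, a.1 = i ∧ a.2.1 = k) {g : Fi23} (hg : Rl (x23 i) g) :
    IsConj (x23 i) g := by
  refine hg.isConj ((ord_pw.1 i hi).trans hn) h0 fun k hk hc => ?_
  rcases h k hk hc with rfl | ⟨a, ha, rfl, rfl⟩
  · rw [pow_one]
  · exact rtB_spec (List.all_eq_true.1 rt_ok a ha)

theorem sep : ∀ i < D.n, ∀ j < D.n, Rl (x23 i) (x23 j) → i = j := by
  have := fin23
  refine sep_of okOrb23 ord_pw.1 ord_pw.2 (f := fixc cx rho) (g := fun _ => 0) (fun _ _ h => h.fixc ok.om)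
    (fun _ _ _ => rfl) (u := sd1.map fun a => a.toNat + 1) (v := []) (fun i hi _ => ?_) (fun i _ h => absurd rfl h)
    (ex := [(29, 30), (34, 35), (45, 46)]) ?_ (by decide +kernel)
  · rw [fix_all i hi]
    exact (by decide +kernel : ∀ i < 92, (nth sd1 i).toNat + 1 = (sd1.map fun a => a.toNat + 1).getD i 0) i hi
  · simp only [List.mem_cons, List.not_mem_nil, or_false, forall_eq_or_imp, forall_eq]
    refine ⟨fun h => nc29 ?_, fun h => nc34 ?_, fun h => nc45 ?_⟩
    · rw [← x_eq (i := 29) (by decide +kernel), ← x_eq (i := 30) (by decide +kernel)]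
      exact rat_of (n := 8) (by norm_num) (by decide +kernel) (by norm_num) (by decide +kernel) h
    · rw [← x_eq (i := 34) (by decide +kernel), ← x_eq (i := 35) (by decide +kernel)]
      exact rat_of (n := 9) (by norm_num) (by decide +kernel) (by norm_num) (by decide +kernel) h
    · rw [← x_eq (i := 45) (by decide +kernel), ← x_eq (i := 46) (by decide +kernel)]
      exact rat_of (n := 12) (by norm_num) (by decide +kernel) (by norm_num) (by decide +kernel) h

theorem d55 : ¬ IsConj (x23 55) (x23 55 ^ 2) := by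
  rw [x_eq (i := 55) (c := 0x13) (d := 2) (by decide +kernel), ← pow_mul]
  exact nc55

theorem d60 : ¬ IsConj (x23 60) (x23 60 ^ 5) := by
  rw [x_eq (i := 60) (c := 0x59c1) (d := 1) (by decide +kernel), ← pow_mul]
  exact nc60

theorem d74 : ¬ IsConj (x23 74) (x23 74 ^ 21) := by
  rw [x_eq (i := 74) (c := 0x11) (d := 1) (by decide +kernel), ← pow_mul]
  exact fun h => nc74 (h.trans inv74.symm)

theorem d75 : ¬ IsConj (x23 75) (x23 75 ^ 5) := by
  have := fin23
  have h1 : orderOf (x23 75) = 23 := ord_pw.1 75 (by decide)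
  refine not_conj_root (c := 23) (by norm_num) (by rw [card23]; norm_num) h1 (le_antisymm c75 ?_)
    (by rw [card23]; norm_num) (by decide +kernel)
  exact Nat.le_of_dvd Nat.card_pos (h1 ▸ Big.dvd_cent rfl)

theorem d13 {i p m : ℕ} (hi : i < D.n) (hp : p ∈ PL) (hd : p ∣ D.ord i) (h : D.pwf i p = 55) (hm : m % 13 = 2) :
    ¬ IsConj (x23 i) (x23 i ^ m) := by
  have := fin23
  intro hc
  have h1 := ord_pw.2 i hi p hp hd
  rw [h] at h1
  have h2 := rl_conj_pow h1 (m := m) (by rw [← pow_mul, mul_comm, pow_mul]; exact hc.pow p)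
  rw [← pow_mod_orderOf, show orderOf (x23 55) = 13 from ord_pw.1 55 (by decide), hm] at h2
  exact d55 h2

/-- the types which consist of two classes -/
def dbl : List (ℕ × ℕ) := [(55, 2), (60, 5), (74, 21), (75, 5), (79, 15), (88, 2)]

theorem dbl_ok : ∀ a ∈ dbl, ¬ IsConj (x23 a.1) (x23 a.1 ^ a.2) := by
  simp only [dbl, List.mem_cons, List.not_mem_nil, or_false, forall_eq_or_imp, forall_eq]
  exact ⟨d55, d60, d74, d75, d13 (p := 2) (by decide) (by decide) (by decide) (by decide +kernel) rfl,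
    d13 (p := 3) (by decide) (by decide) (by decide) (by decide +kernel) rfl⟩

theorem cnt_cases : ∀ i < 92, D.cnt i ≤ 4089470473293004800 / cL.getD i 0 ∨ ∃ a ∈ dbl, a.1 = i ∧
    Nat.Coprime a.2 (D.ord i) ∧ D.cnt i ≤ 2 * (4089470473293004800 / cL.getD i 0) := by decide +kernel

theorem exists_T : ∃ T : TD Fi23 D, T.Mass ∧ ∀ g, ∀ i < D.n, T.ty g = i ↔ Rl (x23 i) g := by
  have := fin23
  have hn : (MonoidHom.id Fi23).range.Normal := by
    rw [MonoidHom.range_eq_top.2 Function.surjective_id]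
    infer_instance
  refine exists_td_orb (MonoidHom.id Fi23) Function.injective_id okOrb23 okPow (by decide +kernel) okSum card23
    x_zero ord_pw.1 ord_pw.2 sep fun i hi => ?_
  rcases cnt_cases i hi with h | ⟨a, ha, rfl, h1, h⟩
  · rw [← card23] at h
    exact h.trans (cnt_one _ Function.injective_id hn (z := x23 i) ⟨x23 i, rfl⟩ (cen_all i hi))
  · rw [← card23] at h
    exact h.trans (cnt_two _ Function.injective_id hn (z := x23 a.1) ⟨x23 a.1, rfl⟩ (cen_all _ hi)
      (by rwa [ord_pw.1 _ hi]) (dbl_ok a ha))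

/-- the points -/
def Pt : Type := {p : ℕ // cx.Om.testBit p = true}

/-- the action on the points -/
@[reducible] noncomputable def ptAct : MulAction Fi23 Pt where
  smul g p := ⟨rho g p.1, (ok.om g p.1).trans p.2⟩
  one_smul p := Subtype.ext (show rho 1 p.1 = p.1 by rw [map_one]; rfl)
  mul_smul a b p := Subtype.ext (show rho (a * b) p.1 = rho a (rho b p.1) by rw [map_mul]; rfl)

theorem char_fix : IsCharacter Fi23 fun g => (fixc cx rho g : ℂ) := by
  let _ := ptAct
  have : Finite Pt := (finite_bits cx.Om).to_subtype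
  have h := S0157.isCharacter_fixedBy (G := Fi23) Pt
  convert h using 3 with g
  rw [fixc, ← Nat.card_coe_set_eq]
  exact Nat.card_congr
    { toFun := fun p => ⟨⟨p.1, p.2.1⟩, Subtype.ext p.2.2⟩
      invFun := fun p => ⟨p.1.1, p.1.2, congrArg Subtype.val p.2⟩
      left_inv := fun _ => rfl
      right_inv := fun _ => rfl }

/-- **the types of `Fi₂₃`** -/
theorem box : ∃ T : TD Fi23 D, Hyp T ∧ (∀ g, ∀ s < 92, T.ty g = s ↔ Rl (x23 s) g) ∧
    ∀ s < 92, s ∉ [55, 60, 74, 75, 79, 88] → ∀ g h, T.ty g = s → T.ty h = s → IsConj g h := by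
  have := fin23
  obtain ⟨T, hm, hT⟩ := exists_T
  have hx : ∀ i < D.n, T.ty (x23 i) = i := fun i hi => (hT _ i hi).2 (Rl.refl _)
  refine ⟨T, ⟨hm, fun g h hgh => ?_, ?_, ?_⟩, hT, fun s hs hs' g h hg hh => ?_⟩
  · obtain ⟨k, -, hk⟩ := ((hT g _ (T.lt g)).1 rfl).symm.trans ((hT h _ (T.lt g)).1 hgh.symm)
    exact ⟨k, hk⟩
  · have h1 := Characters.Brauer.isGeneralizedCharacter_of_isCharacter char_fix
    rw [Virt]
    convert h1 using 2 with g
    rw [((hT g _ (T.lt g)).1 rfl).fixc ok.om, fix_all _ (T.lt g)]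
    have h2 := (by decide +kernel : ∀ i < 92, ((nth sd1 i).toNat : ℤ) = nth sd1 i) _ (T.lt g)
    exact (congrArg (Int.cast : ℤ → ℂ) h2).symm.trans (Int.cast_natCast _)
  · refine le_trans (by decide +kernel) (ON.sum_le_classes T (fun i => if i ∈ dbl.map Prod.fst then 2 else 1)
      fun i hi => ?_)
    split_ifs with h
    · obtain ⟨a, ha, rfl⟩ := List.mem_map.1 h
      refine ⟨[x23 a.1, x23 a.1 ^ a.2], rfl, ?_, by simpa using dbl_ok a ha⟩
      simp only [List.mem_cons, List.not_mem_nil, or_false, forall_eq_or_imp, forall_eq]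
      refine ⟨hx _ hi, (hT _ _ hi).2 (rl_pow ?_)⟩
      rw [ord_pw.1 _ hi]
      exact (by decide +kernel : ∀ a ∈ dbl, Nat.Coprime a.2 (D.ord a.1)) a ha
    · exact ⟨[x23 i], rfl, by simpa using hx i hi, by simp⟩
  · have h1 : D.cnt (T.ty (x23 s)) * Nat.card (centralizer ({x23 s} : Set Fi23)) ≤ Nat.card Fi23 := by
      rw [hx s hs, card23]
      exact (Nat.mul_le_mul_left _ (cen_all s hs)).trans ((by decide +kernel : ∀ s < 92,
        s ∉ [55, 60, 74, 75, 79, 88] → D.cnt s * cL.getD s 0 ≤ 4089470473293004800) s hs hs')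
    exact (TD.single hm.le h1 (hg.trans (hx s hs).symm)).symm.trans (TD.single hm.le h1 (hh.trans (hx s hs).symm))

end Cfsg.Agent.TAB.F23C

private theorem dce_a79381372650 : _root_.True := by
  try have : _root_.True := by simp only [_root_.Cfsg.Agent.TAB.F23C.dbl.eq_1]
  exact _root_.True.intro
end

-- part: TAB/F24C/B23
section
set_option linter.all false

/-!
# The box of `Fi₂₃` for `Fi₂₄'` (helper21, TAB)
-/

set_option autoImplicit false

namespace Cfsg.Agent.TAB.F24C

theorem box23 : Box23 := F23C.box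

end Cfsg.Agent.TAB.F24C
end
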