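import Cfsg.Agent.TAB.F24.G.Wd_m3
import Cfsg.Agent.Prune
set_option linter.all false

section
prune_inst 0x7f00000000000000000000000000000000000000000000000000000000000000000000000000000000000000000000000000000000000000000000000000000000000000000000000000000000000000003fffffffffffffffffffffffffffbeffbdffffffff

-- part: TAB/F24C/E83
section
set_option linter.all false

/-!
# `Fi₂₄` : the centralizer of the type 83 (helper96, TAB; generated by notes/TAB/F24/gen96.cpp)
-/

set_option autoImplicit false
set_option maxRecDepth 100000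
set_option Elab.async false

namespace Cfsg.Agent.TAB.F24C.E83

open Cfsg.Agent.TAB.PE Cfsg.Agent.TAB.CE
open Cfsg.Agent.Fischer.Fi24Rep (rho)
open Cfsg.Spor

/-- data -/
noncomputable def L : ℕ := 0x4a6d548852480a34628345839438463bdfb3742436635360d43608b314ba303e32f4c02dbe92dba32d01c2ccef2c33a2b4bd2a82a26739256bc23894233a820b451f3b31dec11a83b191a50ff2c0eec60ee1f0da400d8250d57d0d2830c97909ddc0984407ab20747503dba02cf3

/-- data -/
noncomputable def X : ℕ := 0x902900502501d01102401601301701802302800102001b01a01500201901201001f01c00e01402201e02102600a00f00d00800c02a00400700600002700302b00b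

theorem hi : Inj 44 L := inj_of (by decide +kernel)

theorem px_0 : tbB (ap 0x9426ca815b37 1) 44 L X [0, 1, 2, 3, 4, 5] = true := by decide +kernel

theorem hx : Tb rho 44 L (el 0x9426ca815b37 ^ 1) (gt X) :=
  tb_of (nb := 6) hi (acts 0x9426ca815b37 1)
    (Pl.app px_0 Pl.nil) (by decide +kernel)

/-- data -/
noncomputable def c0 : ℕ := 0xc6b6b56768579c683b5764b5c6b7c86b752645349586b7c86ab796857463b5c641b7538642b753864975a869b7c869b75a869b758649b753c864b758629b57

/-- data -/
noncomputable def T0 : ℕ := 0xd02801801c00002900500900a02301d01901e02101100b02401700602b00701500802601201f01b00402a02701a01002000c00200e00301602201400f013025001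

/-- data -/
noncomputable def U0 : ℕ := 0x1800f02602a00e01400101b02200501e00b01201f02102801100d02002901a00601600400201301d00c00300802b00a01c023024015017019025010007009000027

theorem k0 : cjB cx (apN (ap 0x9426ca815b37 1) 3) (apN (ap 0x9426ca815b37 1) 3) c0 = true := by decide +kernel

theorem p0_0 : tbB (aw c0) 44 L T0 [0, 1, 2, 3] = true := by decide +kernel

theorem p0_1 : tbB (aw c0) 44 L T0 [4, 5] = true := by decide +kernel

theorem g0 : el c0 ∈ Subgroup.centralizer {(el 0x9426ca815b37 ^ 1) ^ 3} ∧ Tb rho 44 L (el c0) (gt T0) :=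
  gen_ok (nb := 6) ((acts 0x9426ca815b37 1).pow 3) k0 hi
    (Pl.app p0_0 (Pl.app p0_1 Pl.nil)) (by decide +kernel)

theorem i0 : invB 44 T0 U0 = true := by decide +kernel

/-- data -/
noncomputable def c1 : ℕ := 0x756c3b46b57685764b5c6b7c6b5a28649753864b75c69b7c869b786a7985746b564753c8642b7531642753864b73c86291

/-- data -/
noncomputable def T1 : ℕ := 0x1701102400502502b02300c01000702000a00101802201901600801500600f00402700b01402801a02601c02901302a00901f00302101e01200201d00000e00d01b

/-- data -/
noncomputable def U1 : ℕ := 0x2600c00e01201501002702902501d00802100a00700400f00001101c01e02b01b01901300d00602a02301700200102401402000b01a02201802801600900501f003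

theorem k1 : cjB cx (apN (ap 0x9426ca815b37 1) 3) (apN (ap 0x9426ca815b37 1) 3) c1 = true := by decide +kernel

theorem p1_0 : tbB (aw c1) 44 L T1 [0, 1, 2, 3, 4] = true := by decide +kernel

theorem p1_1 : tbB (aw c1) 44 L T1 [5] = true := by decide +kernel

theorem g1 : el c1 ∈ Subgroup.centralizer {(el 0x9426ca815b37 ^ 1) ^ 3} ∧ Tb rho 44 L (el c1) (gt T1) :=
  gen_ok (nb := 6) ((acts 0x9426ca815b37 1).pow 3) k1 hi
    (Pl.app p1_0 (Pl.app p1_1 Pl.nil)) (by decide +kernel)

theorem i1 : invB 44 T1 U1 = true := by decide +kernel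

/-- words -/
noncomputable def ws : List ℕ := [0, 1, 2, 3]

theorem lv : levB 44 (fun i => i) (fun i => i) X 4 [T0, U0, T1, U1] [U0, T0, U1, T1] [0] ws 4 = true := by
  decide +kernel

theorem cen [Finite Fi24] (hy : Nat.card (Subgroup.centralizer ({(el 0x9426ca815b37 ^ 1) ^ 3} : Set Fi24)) ≤ 264) :
    Nat.card (Subgroup.centralizer ({el 0x9426ca815b37 ^ 1} : Set Fi24)) ≤ 66 :=
  cen_one hi hx (.cons g0 (.cons (gen_inv g0 i0) (.cons g1 (.cons (gen_inv g1 i1) .nil)))) lv hy (by norm_num)

end Cfsg.Agent.TAB.F24C.E83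
end

-- part: TAB/F24C/E89
section
set_option linter.all false

/-!
# `Fi₂₄` : the centralizer of the type 89 (helper96, TAB; generated by notes/TAB/F24/gen96.cpp)
-/

set_option autoImplicit false
set_option maxRecDepth 100000
set_option Elab.async false

namespace Cfsg.Agent.TAB.F24C.E89

open Cfsg.Agent.TAB.PE Cfsg.Agent.TAB.CE
open Cfsg.Agent.Fischer.Fi24Rep (rho)
open Cfsg.Spor

/-- data -/
noncomputable def cx' : ℕ := 0x347b5c69b572c683b576495c86b7c869b7867564b7538649b56ab796857c6b5c64b7538642975386497586b7ac869b75864b7564b75c86b7364b5c86b74c86b753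

theorem ex : eqW (ap 0xcb765b67876b987456789b65476587bcb65476587b657cb653456789b6547658cb654376548b65768bcb654a9876543b6547658cb6547658798b6576bcb6543723456789b6547687bcb65432765879bc 1) cx' = true := by decide +kernel

/-- data -/
noncomputable def cy' : ℕ := 0xc2b534c6b5a8697a68b79c68b76b564752c869b7386475c6b786a75968b7c6b5c64b7538649b75c86429b75386475c69b7c86b75649b75ac869b7a864b3975

theorem ey : eqW (apN (aw cx') 3) cy' = true := by decide +kernel

/-- data -/
noncomputable def L : ℕ := 0x48c7341456313fc1d28d0de98058d6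

/-- data -/
noncomputable def X : ℕ := 0x3001000004002005

theorem hi : Inj 6 L := inj_of (by decide +kernel)

theorem px_0 : tbB (aw cx') 6 L X [0, 1, 2] = true := by decide +kernel

theorem hx : Tb rho 6 L (el 0xcb765b67876b987456789b65476587bcb65476587b657cb653456789b6547658cb654376548b65768bcb654a9876543b6547658cb6547658798b6576bcb6543723456789b6547687bcb65432765879bc ^ 1) (gt X) :=
  tb_of (nb := 3) hi (acts_eq (acts 0xcb765b67876b987456789b65476587bcb65476587b657cb653456789b6547658cb654376548b65768bcb654a9876543b6547658cb6547658798b6576bcb6543723456789b6547687bcb65432765879bc 1) ex)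
    (Pl.app px_0 Pl.nil) (by decide +kernel)

/-- data -/
noncomputable def c0 : ℕ := 0xc6b74c68b579c68b7654b5c6b7c86b75364b75c6b7c869b75864ab759648b576b56475386429753c864b756b7ac869b75864b75ac869b75c864b7563ba2c917

/-- data -/
noncomputable def T0 : ℕ := 0x3002005001004000

/-- data -/
noncomputable def U0 : ℕ := 0x3001005004002000

theorem k0 : cjB cx (aw cy') (aw cy') c0 = true := by decide +kernel

theorem p0_0 : tbB (aw c0) 6 L T0 [0, 1, 2] = true := by decide +kernel

theorem g0 : el c0 ∈ Subgroup.centralizer {(el 0xcb765b67876b987456789b65476587bcb65476587b657cb653456789b6547658cb654376548b65768bcb654a9876543b6547658cb6547658798b6576bcb6543723456789b6547687bcb65432765879bc ^ 1) ^ 3} ∧ Tb rho 6 L (el c0) (gt T0) :=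
  gen_ok (nb := 3) (acts_eq ((acts_eq (acts 0xcb765b67876b987456789b65476587bcb65476587b657cb653456789b6547658cb654376548b65768bcb654a9876543b6547658cb6547658798b6576bcb6543723456789b6547687bcb65432765879bc 1) ex).pow 3) ey) k0 hi
    (Pl.app p0_0 Pl.nil) (by decide +kernel)

theorem i0 : invB 6 T0 U0 = true := by decide +kernel

/-- data -/
noncomputable def c1 : ℕ := 0xc53b74c69b5c68b796876b5647586b7c869b75864ab7539648576b56475386427536495a869b7c869b75864b75864b75ac649b75c8647b53

/-- data -/
noncomputable def T1 : ℕ := 0x3001005002004000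

/-- data -/
noncomputable def U1 : ℕ := 0x3001005002004000

theorem k1 : cjB cx (aw cy') (aw cy') c1 = true := by decide +kernel

theorem p1_0 : tbB (aw c1) 6 L T1 [0, 1, 2] = true := by decide +kernel

theorem g1 : el c1 ∈ Subgroup.centralizer {(el 0xcb765b67876b987456789b65476587bcb65476587b657cb653456789b6547658cb654376548b65768bcb654a9876543b6547658cb6547658798b6576bcb6543723456789b6547687bcb65432765879bc ^ 1) ^ 3} ∧ Tb rho 6 L (el c1) (gt T1) :=
  gen_ok (nb := 3) (acts_eq ((acts_eq (acts 0xcb765b67876b987456789b65476587bcb65476587b657cb653456789b6547658cb654376548b65768bcb654a9876543b6547658cb6547658798b6576bcb6543723456789b6547687bcb65432765879bc 1) ex).pow 3) ey) k1 hi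
    (Pl.app p1_0 Pl.nil) (by decide +kernel)

theorem i1 : invB 6 T1 U1 = true := by decide +kernel

/-- words -/
noncomputable def ws : List ℕ := [1, 0, 3, 7]

theorem lv : levB 6 (fun i => i) (fun i => i) X 4 [T0, U0, T1, U1] [U0, T0, U1, T1] [0, 1] ws 4 = true := by
  decide +kernel

theorem cen [Finite Fi24] (hy : Nat.card (Subgroup.centralizer ({(el 0xcb765b67876b987456789b65476587bcb65476587b657cb653456789b6547658cb654376548b65768bcb654a9876543b6547658cb6547658798b6576bcb6543723456789b6547687bcb65432765879bc ^ 1) ^ 3} : Set Fi24)) ≤ 468) :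
    Nat.card (Subgroup.centralizer ({el 0xcb765b67876b987456789b65476587bcb65476587b657cb653456789b6547658cb654376548b65768bcb654a9876543b6547658cb6547658798b6576bcb6543723456789b6547687bcb65432765879bc ^ 1} : Set Fi24)) ≤ 117 :=
  cen_one hi hx (.cons g0 (.cons (gen_inv g0 i0) (.cons g1 (.cons (gen_inv g1 i1) .nil)))) lv hy (by norm_num)

end Cfsg.Agent.TAB.F24C.E89
end

-- part: TAB/F24C/E92
section
set_option linter.all false

/-!
# `Fi₂₄` : the centralizer of the type 92 (helper96, TAB; generated by notes/TAB/F24/gen96.cpp)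
-/

set_option autoImplicit false
set_option maxRecDepth 100000
set_option Elab.async false

namespace Cfsg.Agent.TAB.F24C.E92

open Cfsg.Agent.TAB.PE Cfsg.Agent.TAB.CE
open Cfsg.Agent.Fischer.Fi24Rep (rho)
open Cfsg.Spor

/-- data -/
noncomputable def L : ℕ := 0x4118a40e7e3e574265211fabf0ed2a0898c08913058c8

/-- data -/
noncomputable def X : ℕ := 0x3004000007006005001008002

theorem hi : Inj 9 L := inj_of (by decide +kernel)

theorem px_0 : tbB (ap 0x678c42753ba64975ca682b93 1) 9 L X [0, 1, 2, 3] = true := by decide +kernel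

theorem hx : Tb rho 9 L (el 0x678c42753ba64975ca682b93 ^ 1) (gt X) :=
  tb_of (nb := 4) hi (acts 0x678c42753ba64975ca682b93 1)
    (Pl.app px_0 Pl.nil) (by decide +kernel)

/-- data -/
noncomputable def c0 : ℕ := 0x6768357984b756b7c869b7586b7564b526738475c69b7c869b758647564b586a79837c46b5c64b7562b753c64b586b7c869b75a8649b75c8639b78649

/-- data -/
noncomputable def T0 : ℕ := 0x1005000007003002004008006

/-- data -/
noncomputable def U0 : ℕ := 0x1005000007002004003008006

theorem k0 : cjB cx (apN (ap 0x678c42753ba64975ca682b93 1) 3) (apN (ap 0x678c42753ba64975ca682b93 1) 3) c0 = true := by decide +kernel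

theorem p0_0 : tbB (aw c0) 9 L T0 [0, 1, 2, 3] = true := by decide +kernel

theorem g0 : el c0 ∈ Subgroup.centralizer {(el 0x678c42753ba64975ca682b93 ^ 1) ^ 3} ∧ Tb rho 9 L (el c0) (gt T0) :=
  gen_ok (nb := 4) ((acts 0x678c42753ba64975ca682b93 1).pow 3) k0 hi
    (Pl.app p0_0 Pl.nil) (by decide +kernel)

theorem i0 : invB 9 T0 U0 = true := by decide +kernel

/-- data -/
noncomputable def c1 : ℕ := 0x86cb576b568765415269b73c864b7569b7c869b75864a759683b7463b5c64b7538641b758642b7538649b75ac869b7c869b7586b75c64b5326453a64b753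

/-- data -/
noncomputable def T1 : ℕ := 0x8007001006002004003005000

/-- data -/
noncomputable def U1 : ℕ := 0x8007005001003002004006000

theorem k1 : cjB cx (apN (ap 0x678c42753ba64975ca682b93 1) 3) (apN (ap 0x678c42753ba64975ca682b93 1) 3) c1 = true := by decide +kernel

theorem p1_0 : tbB (aw c1) 9 L T1 [0, 1, 2, 3] = true := by decide +kernel

theorem g1 : el c1 ∈ Subgroup.centralizer {(el 0x678c42753ba64975ca682b93 ^ 1) ^ 3} ∧ Tb rho 9 L (el c1) (gt T1) :=
  gen_ok (nb := 4) ((acts 0x678c42753ba64975ca682b93 1).pow 3) k1 hi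
    (Pl.app p1_0 Pl.nil) (by decide +kernel)

theorem i1 : invB 9 T1 U1 = true := by decide +kernel

/-- words -/
noncomputable def ws : List ℕ := [34, 3, 23, 7, 8, 1, 18, 13, 21, 11, 12, 2, 24, 29, 4, 0, 5, 10]

theorem lv : levB 9 (fun i => i) (fun i => i) X 4 [T0, U0, T1, U1] [U0, T0, U1, T1] [0, 1] ws 18 = true := by
  decide +kernel

theorem cen [Finite Fi24] (hy : Nat.card (Subgroup.centralizer ({(el 0x678c42753ba64975ca682b93 ^ 1) ^ 3} : Set Fi24)) ≤ 810) :
    Nat.card (Subgroup.centralizer ({el 0x678c42753ba64975ca682b93 ^ 1} : Set Fi24)) ≤ 45 :=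
  cen_one hi hx (.cons g0 (.cons (gen_inv g0 i0) (.cons g1 (.cons (gen_inv g1 i1) .nil)))) lv hy (by norm_num)

end Cfsg.Agent.TAB.F24C.E92
end
end
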