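import Cfsg.Agent.TAB.F24.TabT_m3
import Cfsg.Agent.Lib.ListFast
import Cfsg.Agent.TAB.F24.Use_m3
import Cfsg.Agent.S2055
import Cfsg.Agent.Prune
set_option linter.all false

section
prune_inst 0x7f00000000000000000000000000000000000000000000000000000000000000000000000000000000000000000000000000000000000000000000000000000000000000000000000000000000000000003fffffffffffffffffffffffffffbeffbdffffffff

-- part: TAB/F24/TabX
section
set_option linter.all false

/-- decoders of the packed data (elaboration time only) -/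
private noncomputable def pk61d (b S i : Nat) : Nat := Nat.mod (Nat.shiftRight S (Nat.mul b i)) (Nat.shiftLeft (nat_lit 1) b)
private noncomputable def pk61c {α : Type} (t : Nat) (a : α) (f : Nat → α) : α := Nat.rec a (fun k _ => f k) t
private noncomputable def pk61f {α : Type} (t : Nat) (f : Nat → α) : α := Nat.rec (f Nat.zero) (fun k _ => f (Nat.succ k)) t
private noncomputable def pk61z (t : Nat) : Int := pk61f t fun t =>
  pk61c (Nat.mod t (nat_lit 2)) (Int.ofNat (Nat.div t (nat_lit 2))) fun _ => Int.negSucc (Nat.div t (nat_lit 2))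
private noncomputable def pk61l {α : Type} (f : Nat → α) (s e : Nat) (tl : List α) : List α :=
  pk61f e fun e => Nat.rec tl (fun k ih => List.cons (pk61f (Nat.sub e (Nat.succ k)) f) ih) (Nat.sub e s)

/-!
# Faithful characters of `3.Fi₂₄'` : data

49 orthogonal rows, and 17 differences of rows (helper16, TAB)
-/

set_option autoImplicit false
set_option maxRecDepth 100000

namespace Cfsg.Agent.TAB.F24

open Cfsg.Agent.TAB.Eng Cfsg.Agent.TAB.Glue Cfsg.Agent.TAB.Cov

/-- the values at the type 0 -/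
def cX0 : List ℤ :=
  (by
  refine (?fq9001 : ((pk61l (fun i1 => (pk61z (pk61d (nat_lit 41) 
    (nat_lit 0x2bb429c82514e039373c489b352101e3feeaf3e8f0dfc36568b86b9418240c0fe46c43380515e533210274bb6e788041d00f810018527522400a701c6b10009d5f51a8002e7f175000173f7f6c000182e671000002577c119ffd068e8086050b29403d78cfcaa005071104000256b29c580112b253c80019c4839e2f33375eed90007d2177479069b1aca3bd46a7d8019212c00000c4186de5185ee3ecd0002b1c79be8014c82778f98953fcc6df047ec8522f022f687d48a108cf8d17e87e4ad000003f25680000181cc79b6809c91ad24004abe900000255f480000123dd79048076e505e0f026ea5467000fe46c495604eaf9c980027246b49000dfc36550406c160558202daa7d2a8013fa96c29808ce9823a00226cd482800ffbabcee0047885fd0001b193695000b92ef2be003ea0aba8000613348f8000a701c9c000244e4d40000669cc900000255f48000003f120) i1))) (nat_lit 0) (nat_lit 66) List.nil) : List ℤ)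
    = ?xq9001 → (List ℤ)) ?hq9001; (case hq9001 => (set_option maxRecDepth 1000000 in conv => lhs; reduce)); intro _; exact ?xq9001 : List ℤ)

/-- the values at the type 1 -/
def cX1 : List ℤ :=
  (by
  refine (?fq9002 : ((pk61l (fun i1 => (pk61z (pk61d (nat_lit 40) 
    (nat_lit 0xaed0a72093a701c9b9e189b352101d7fdd5e7d1d37f0d95a2d35ca0c12050fe46c43370a2bca664109d2edb9e1020e807c070185275223014e038d61002757d46900173f8ba700173f7f6b000305cce10000095def8cffe83473086050b29307af19f9530141c440ff012b594e2b0112b253c7003389073bbcccdd7bb58003e90bb979069b1ac977a8d4faff6484afffff620c36f28b5ee3eccfff5638f37cff53209de3e54a9fe636f747ec8522ef45ed0fa9134233e345f93f2567ffff3f2567ffff30398f36cf27246b48ff255f47ffff255f47ffff247baf208f1db941783b13752a337f0fe46c495509d5f392ff09c91ad23f06fe1b2a8106c160558105b54fa54f04fea5b0a504674c11cf0226cd482701ff7579db011e217f3f00d8c9b4a700b92ef2bd007d41574f00184cd23d0005380e4d000244e4d30000cd399100000957d1000001f88f) i1))) (nat_lit 0) (nat_lit 66) List.nil)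 : List ℤ)
    = ?xq9002 → (List ℤ)) ?hq9002; (case hq9002 => (set_option maxRecDepth 1000000 in conv => lhs; reduce)); intro _; exact ?xq9002 : List ℤ)

/-- the values at the type 2 -/
def cX2 : List ℤ :=
  (by
  refine (?fq9003 : ((pk61l (fun i1 => (pk61z (pk61d (nat_lit 20) 
    (nat_lit 0xead717fc40543c1ce3c0afa36480c1b98f4688417fc40dbef06bb7206c404f2b04f5005927005c4007e0530e81e52831d5707dff093a70e06f096784889340c8ba7a6b2760000000819185a000545ff79bcc375f075a1f201d73b3f400000000001625f34dff00000000003a920234781b8ff35d53179ff00480179040b4fb272a02e14c30ba00e8501684705e801c95011a8300ea00207c0189c015a8008db0045b00120) i1))) (nat_lit 0) (nat_lit 66) List.nil) : List ℤ)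
    = ?xq9003 → (List ℤ)) ?hq9003; (case hq9003 => (set_option maxRecDepth 1000000 in conv => lhs; reduce)); intro _; exact ?xq9003 : List ℤ)

/-- the values at the type 3 -/
def cX3 : List ℤ :=
  (by
  refine (?fq9004 : ((pk61l (fun i1 => (pk61z (pk61d (nat_lit 19) 
    (nat_lit 0x3ab60bfe10543a39c742be9324051b9908d1045ff086df806bb840d8413cb027a70592800b8401f7a98731e52663ab01f80049d40e07012ced222520646a7a6c4ebfc000040c8b59ffea8c01e6f29baf775a20403b0ecfc80000000002c4c0d38000000000007523c8d1d8dc8035d542f400011f8bc810b4fc4e53cb852985cf0e84e2d090179f8e4a711a8401d3c081e80c4d015a6011b801170008f) i1))) (nat_lit 0) (nat_lit 66) List.nil) : List ℤ)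
    = ?xq9004 → (List ℤ)) ?hq9004; (case hq9004 => (set_option maxRecDepth 1000000 in conv => lhs; reduce)); intro _; exact ?xq9004 : List ℤ)

/-- the values at the type 4 -/
def cX4 : List ℤ :=
  (by
  refine (?fq9005 : ((pk61l (fun i1 => (pk61z (pk61d (nat_lit 25) 
    (nat_lit 0x4c5c508f013b6bad61abd9cf01679471a750c5f0b3812aee111dfd8829db1015d82406d77101915a80b255003e46c009f310006dc1516ae8293d6b8f0455c207bfe12905801d53781dfe1d53d1269af98b50e4ca1f1a7fe6ffffe4f4a18145000093a801579666fef00f0c410fb9954a1242be8f4000022000027b6681b3b400f4000022000001d537c3012f01b5f002e2b561b6f800d179009a06043101820446d7ca9c2980d325f19332801a52e0502d002611500fdabe08d9a8017b6f804d39c015a540067090005548001520) i1))) (nat_lit 0) (nat_lit 66) List.nil) : List ℤ)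
    = ?xq9005 → (List ℤ)) ?hq9005; (case hq9005 => (set_option maxRecDepth 1000000 in conv => lhs; reduce)); intro _; exact ?xq9005 : List ℤ)

/-- the values at the type 5 -/
def cX5 : List ℤ :=
  (by
  refine (?fq9006 : ((pk61l (fun i1 => (pk61z (pk61d (nat_lit 24) 
    (nat_lit 0x13171347809e6bad6257b39d059e528d3a855f0b37255dc1477f6114ed8715d8230daee10645690592a703e46b013e61001b6fa8b573293d6c1e08ac081f0009482b01d53803bfc454f44a4d7cc650e4c93e35009c000027a50b144fff1274ff55e59a7f78080c4110732a93490af979ffff21ffff4f6ccf6cecff79ffff21ffff03aa700c04bb0daf7f2e2b5536deff345e3f4d0301310181088db02a70a5069930193327034a5b140b3f1308a70fdabd11b34f05edbd0269cd015a5300ce11001551000a8f) i1))) (nat_lit 0) (nat_lit 66) List.nil) : List ℤ)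
    = ?xq9006 → (List ℤ)) ?hq9006; (case hq9006 => (set_option maxRecDepth 1000000 in conv => lhs; reduce)); intro _; exact ?xq9006 : List ℤ)

/-- the values at the type 6 -/
def cX6 : List ℤ :=
  (by
  refine (?fq9007 : ((pk61l (fun i1 => (pk61z (nat_lit 0))) (nat_lit 0) (nat_lit 66) List.nil) : List ℤ)
    = ?xq9007 → (List ℤ)) ?hq9007; (case hq9007 => (set_option maxRecDepth 1000000 in conv => lhs; reduce)); intro _; exact ?xq9007 : List ℤ)

/-- the values at the type 7 -/
def cX7 : List ℤ :=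
  (by
  refine (?fq9008 : ((pk61l (fun i1 => (pk61z (pk61d (nat_lit 18) 
    (nat_lit 0x814dcd0d45e9b03aa3154dcfa97339303b7b63750825c29730609c16fe04164102302664017a0000038f4000001a940761f11b7c25f84fbbc00004271d9d6f8dc00000010dfce3d0000018eac427207efb000005e8017a01d87f43141d8807620100eb4ce30ab4833ae1b51008dbd2a444ce30b0c4103e04fbc3d470999040f8094142a150d2181ccb0374409990207c015f00360) i1))) (nat_lit 0) (nat_lit 66) List.nil) : List ℤ)
    = ?xq9008 → (List ℤ)) ?hq9008; (case hq9008 => (set_option maxRecDepth 1000000 in conv => lhs; reduce)); intro _; exact ?xq9008 : List ℤ)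

/-- the values at the type 8 -/
def cX8 : List ℤ :=
  (by
  refine (?fq9009 : ((pk61l (fun i1 => (pk61z (pk61d (nat_lit 17) 
    (nat_lit 0x2053868695e9a8754855387d4c3392876f98dd2412d29728c1345bf620b1102284cc405e6000038f3800006a4e3b1011b804bed3ef00000427233ae236fe000010e01c79c0000c75542718fdf800002f3f179fbb1010c4eec3f761fa01d9338a55a333adb6a1c237095214ce29618440f627dd3d469331d03de4a092a149a42c732a1ba10998840f4057a01af) i1))) (nat_lit 0) (nat_lit 66) List.nil) : List ℤ)
    = ?xq9009 → (List ℤ)) ?hq9009; (case hq9009 => (set_option maxRecDepth 1000000 in conv => lhs; reduce)); intro _; exact ?xq9009 : List ℤ)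

/-- the values at the type 9 -/
def cX9 : List ℤ :=
  (by
  refine (?fq9010 : ((pk61l (fun i1 => (pk61z (nat_lit 0))) (nat_lit 0) (nat_lit 66) List.nil) : List ℤ)
    = ?xq9010 → (List ℤ)) ?hq9010; (case hq9010 => (set_option maxRecDepth 1000000 in conv => lhs; reduce)); intro _; exact ?xq9010 : List ℤ)

/-- the values at the type 10 -/
def cX10 : List ℤ :=
  (by
  refine (?fq9011 : ((pk61l (fun i1 => (pk61z (pk61d (nat_lit 22) 
    (nat_lit 0x1ad77d3b9d7081b9c1e1c74c00e114ef35da8011ddf804a75cacea82b725067338069c902c7b40b181010308005cd240a681393dc0000005387c1d00f006f5c04bf03cb0cc000002a6b11bea90050ffc000002cd2fcb918f000000a74cc4b0c31d1cd734dc10efa003be8004fc2c47597d03dff40f7fc3b2af34dc116b2105dab600251f11d65cad71734dc0c869401d70601f53027849083ad813499c36d14064eec42ffb03b2ac0b99f0355e003c53005970004a3) i1))) (nat_lit 0) (nat_lit 66) List.nil) : List ℤ)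
    = ?xq9011 → (List ℤ)) ?hq9011; (case hq9011 => (set_option maxRecDepth 1000000 in conv => lhs; reduce)); intro _; exact ?xq9011 : List ℤ)

/-- the values at the type 11 -/
def cX11 : List ℤ :=
  (by
  refine (?fq9012 : ((pk61l (fun i1 => (pk61z (pk61d (nat_lit 21) 
    (nat_lit 0x6b5e09dcec081ba03c391300368a77a5da7fa3bbec129d8567532b7248ce66c1a722163d90b18082060c01733205331393e00000014e200e808006f60097dcf2c34000002a6b0b7d51c14400000002cd301723200000053a654b0c2ba39b0d370277cff3be7f89f8551d66081f0040f80076560d3702b59075dab5804a404759856b8c34dc110d27c75c160fa97278489075ac4d2681b689064ef085ff80ecac05cd00355d8078a80165a00252) i1))) (nat_lit 0) (nat_lit 66) List.nil) : List ℤ)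
    = ?xq9012 → (List ℤ)) ?hq9012; (case hq9012 => (set_option maxRecDepth 1000000 in conv => lhs; reduce)); intro _; exact ?xq9012 : List ℤ)

/-- the values at the type 12 -/
def cX12 : List ℤ :=
  (by
  refine (?fq9013 : ((pk61l (fun i1 => (pk61z (nat_lit 0))) (nat_lit 0) (nat_lit 66) List.nil) : List ℤ)
    = ?xq9013 → (List ℤ)) ?hq9013; (case hq9013 => (set_option maxRecDepth 1000000 in conv => lhs; reduce)); intro _; exact ?xq9013 : List ℤ)

/-- the values at the type 13 -/
def cX13 : List ℤ :=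
  (by
  refine (?fq9014 : ((pk61l (fun i1 => (pk61z (pk61d (nat_lit 10) 
    (nat_lit 0x45c0400c0318d3363c3b010502dd041502f1600408197b5fa8800a78400724cb4251ff000d8001ff6317007e685d000002a000000000a04e1006b0005fc3b3eddf530df4bc782015020ca010c2305c1b06c20) i1))) (nat_lit 0) (nat_lit 66) List.nil) : List ℤ)
    = ?xq9014 → (List ℤ)) ?hq9014; (case hq9014 => (set_option maxRecDepth 1000000 in conv => lhs; reduce)); intro _; exact ?xq9014 : List ℤ)

/-- the values at the type 14 -/
def cX14 : List ℤ :=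
  (by
  refine (?fq9015 : ((pk61l (fun i1 => (pk61z (pk61d (nat_lit 9) 
    (nat_lit 0x1180101008649a6407802272e2045218158041eccb674dfe5483810945924c00006b004018ab7084cd72000053c00000013d367f6a801801e3f3c14a704c0ec7ea72113c4412060381c0f) i1))) (nat_lit 0) (nat_lit 66) List.nil) : List ℤ)
    = ?xq9015 → (List ℤ)) ?hq9015; (case hq9015 => (set_option maxRecDepth 1000000 in conv => lhs; reduce)); intro _; exact ?xq9015 : List ℤ)

/-- the values at the type 15 -/
def cX15 : List ℤ :=
  (by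
  refine (?fq9016 : ((pk61l (fun i1 => (pk61z (pk61d (nat_lit 12) 
    (nat_lit 0x18801b01c11c7fc6ac0701a401b30f5776e422b3d03270e41009d79d7ca80007a74d03474ec6544eb00000028700000065368f1e08f78f47ff80045f1008007ff99f4986ff3d30ff2801a403b0e06cc29f4d001827f6904432a01dc0fc08803b03b020) i1))) (nat_lit 0) (nat_lit 66) List.nil) : List ℤ)
    = ?xq9016 → (List ℤ)) ?hq9016; (case hq9016 => (set_option maxRecDepth 1000000 in conv => lhs; reduce)); intro _; exact ?xq9016 : List ℤ)

/-- the values at the type 16 -/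
def cX16 : List ℤ :=
  (by
  refine (?fq9017 : ((pk61l (fun i1 => (pk61z (pk61d (nat_lit 11) 
    (nat_lit 0x6180e01a235feb5506e34407188578dc48b1e73281c43fcec9d994c003d44ce6913ab294ec00000144000001953481df1f23cc007fe8c03fbff80134125b803d42009f8d103c1bdb29504ce02ca034744453c7687d0860780f00f) i1))) (nat_lit 0) (nat_lit 66) List.nil) : List ℤ)
    = ?xq9017 → (List ℤ)) ?hq9017; (case hq9017 => (set_option maxRecDepth 1000000 in conv => lhs; reduce)); intro _; exact ?xq9017 : List ℤ)

/-- the values at the type 17 -/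
def cX17 : List ℤ :=
  (by
  refine (?fq9018 : ((pk61l (fun i1 => (pk61z (pk61d (nat_lit 14) 
    (nat_lit 0x14a003b2f0c63c117030c21c128400ed1103d202c41f50a5027605c4078151714a0ca817fc2580e400783db107431ade0000020e70001dff0f300f0407cb283c2c00000005a017fc0000000720521c30022b06001dfda04681035f02cc05f1d405b85a00a5039f14a02df099c1aa06240690120) i1))) (nat_lit 0) (nat_lit 66) List.nil) : List ℤ)
    = ?xq9018 → (List ℤ)) ?hq9018; (case hq9018 => (set_option maxRecDepth 1000000 in conv => lhs; reduce)); intro _; exact ?xq9018 : List ℤ)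

/-- the values at the type 18 -/
def cX18 : List ℤ :=
  (by
  refine (?fq9019 : ((pk61l (fun i1 => (pk61z (pk61d (nat_lit 13) 
    (nat_lit 0x52601e2f10c7445a18521ba50403c8873d185847d25272758b841dea8c149994c60012b0e380ecf6a83931b3bfc0010740003c003ca077408164cf0c0000000b3c6000000000e3d48817f22a8bfc780d0168086c00b40301d38b6d67e52739ea93cb7a4cd1a98c441a208f) i1))) (nat_lit 0) (nat_lit 66) List.nil) : List ℤ)
    = ?xq9019 → (List ℤ)) ?hq9019; (case hq9019 => (set_option maxRecDepth 1000000 in conv => lhs; reduce)); intro _; exact ?xq9019 : List ℤ)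

/-- the values at the type 19 -/
def cX19 : List ℤ :=
  (by
  refine (?fq9020 : ((pk61l (fun i1 => (pk61z (pk61d (nat_lit 11) 
    (nat_lit 0xfa2f0b0e4c5182003eafd880f727001db20b00e027048000000000a78002300024c2870000015fbcc0000014400051068c0b81f03e000d229f53e69072267000fb0f006f3be68cef9bb3f052cf01e04d0c41881a034886038088) i1))) (nat_lit 0) (nat_lit 66) List.nil) : List ℤ)
    = ?xq9020 → (List ℤ)) ?hq9020; (case hq9020 => (set_option maxRecDepth 1000000 in conv => lhs; reduce)); intro _; exact ?xq9020 : List ℤ)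

/-- the values at the type 20 -/
def cX20 : List ℤ :=
  (by
  refine (?fq9021 : ((pk61l (fun i1 => (pk61z (pk61d (nat_lit 10) 
    (nat_lit 0x41180adca1480f0416061c7c26c046c4570dc4d11c00000002a00022c0092d4400000581e50000050c0050cd2030100400034550540d11c534001f53bc383c0d23c0de3eca63bcef4cd8761ccf3450b0dc43) i1))) (nat_lit 0) (nat_lit 66) List.nil) : List ℤ)
    = ?xq9021 → (List ℤ)) ?hq9021; (case hq9021 => (set_option maxRecDepth 1000000 in conv => lhs; reduce)); intro _; exact ?xq9021 : List ℤ)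

/-- the values at the type 21 -/
def cX21 : List ℤ :=
  (by
  refine (?fq9022 : ((pk61l (fun i1 => (pk61z (pk61d (nat_lit 9) 
    (nat_lit 0x15ea8242dd6ef0003012e483b93c1e3f0b8a01000d78035e7fc06c1ae00002e1800007b6000d76c220007f1f9005e7f1f9e000574c2005e500013c6ed8440fc0e001805c300f0781c1008) i1))) (nat_lit 0) (nat_lit 66) List.nil) : List ℤ)
    = ?xq9022 → (List ℤ)) ?hq9022; (case hq9022 => (set_option maxRecDepth 1000000 in conv => lhs; reduce)); intro _; exact ?xq9022 : List ℤ)

/-- the values at the type 22 -/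
def cX22 : List ℤ :=
  (by
  refine (?fq9023 : ((pk61l (fun i1 => (pk61z (pk61d (nat_lit 8) 
    (nat_lit 0x5853235c5c77005f4c233c2808200c130300d800d840bfd76c00005b5f00086b006c6b430040201f1840203b002c4b3f182700281c6b43200400170c0b0808040303) i1))) (nat_lit 0) (nat_lit 66) List.nil) : List ℤ)
    = ?xq9023 → (List ℤ)) ?hq9023; (case hq9023 => (set_option maxRecDepth 1000000 in conv => lhs; reduce)); intro _; exact ?xq9023 : List ℤ)

/-- the values at the type 23 -/
def cX23 : List ℤ :=
  (by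
  refine (?fq9024 : ((pk61l (fun i1 => (pk61z (nat_lit 0))) (nat_lit 0) (nat_lit 66) List.nil) : List ℤ)
    = ?xq9024 → (List ℤ)) ?hq9024; (case hq9024 => (set_option maxRecDepth 1000000 in conv => lhs; reduce)); intro _; exact ?xq9024 : List ℤ)

/-- the values at the type 24 -/
def cX24 : List ℤ :=
  (by
  refine (?fq9025 : ((pk61l (fun i1 => (pk61z (pk61d (nat_lit 8) 
    (nat_lit 0x472323232348900023232348470023232300d800470000486c008f240000476b006cb46c00000000480000240023240048480047236b23006b0047236b47476b2323) i1))) (nat_lit 0) (nat_lit 66) List.nil) : List ℤ)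
    = ?xq9025 → (List ℤ)) ?hq9025; (case hq9025 => (set_option maxRecDepth 1000000 in conv => lhs; reduce)); intro _; exact ?xq9025 : List ℤ)

/-- the values at the type 25 -/
def cX25 : List ℤ :=
  (by
  refine (?fq9026 : ((pk61l (fun i1 => (pk61z (pk61d (nat_lit 9) 
    (nat_lit 0x1204824120908f8f80090482423d2000241209000d780120000023dae009011c00004836000d7b3b5c0000000011e000011c0048238011e8f0024090d824001b00048121b090483609048) i1))) (nat_lit 0) (nat_lit 66) List.nil) : List ℤ)
    = ?xq9026 → (List ℤ)) ?hq9026; (case hq9026 => (set_option maxRecDepth 1000000 in conv => lhs; reduce)); intro _; exact ?xq9026 : List ℤ)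

/-- the values at the type 26 -/
def cX26 : List ℤ :=
  (by
  refine (?fq9027 : ((pk61l (fun i1 => (pk61z (pk61d (nat_lit 9) 
    (nat_lit 0x3eeb45988c9048598916823363f08e245989090004800121208f91d20006c24000000024000b3240900000000011e00002d0d84823a3d1e24360908e2311a3c00b43591cd8241208c4600) i1))) (nat_lit 0) (nat_lit 66) List.nil) : List ℤ)
    = ?xq9027 → (List ℤ)) ?hq9027; (case hq9027 => (set_option maxRecDepth 1000000 in conv => lhs; reduce)); intro _; exact ?xq9027 : List ℤ)

/-- the values at the type 27 -/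
def cX27 : List ℤ :=
  (by
  refine (?fq9028 : ((pk61l (fun i1 => (pk61z (pk61d (nat_lit 8) 
    (nat_lit 0xfc595a1223235a115912357d24115a1123004700478f902447006b4700000047005a2311000000004800005935232448481135112412124800593624351111121200) i1))) (nat_lit 0) (nat_lit 66) List.nil) : List ℤ)
    = ?xq9028 → (List ℤ)) ?hq9028; (case hq9028 => (set_option maxRecDepth 1000000 in conv => lhs; reduce)); intro _; exact ?xq9028 : List ℤ)

/-- the values at the type 28 -/
def cX28 : List ℤ :=
  (by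
  refine (?fq9029 : ((pk61l (fun i1 => (pk61z (nat_lit 0))) (nat_lit 0) (nat_lit 66) List.nil) : List ℤ)
    = ?xq9029 → (List ℤ)) ?hq9029; (case hq9029 => (set_option maxRecDepth 1000000 in conv => lhs; reduce)); intro _; exact ?xq9029 : List ℤ)

/-- the values at the type 29 -/
def cX29 : List ℤ :=
  (by
  refine (?fq9030 : ((pk61l (fun i1 => (pk61z (pk61d (nat_lit 13) 
    (nat_lit 0x20040845c099c4ce66c1af86607ee04800596607b60ab10200a00e879721b80006c013005406c00d80000a22fbcbfe0005e02f3c00006c8a633dd1b6d0037f9db113ed0037f85411b659004c0b7c81059746e1300a8e87005d989cd8e6544f208109161a007381cc0c6063) i1))) (nat_lit 0) (nat_lit 66) List.nil) : List ℤ)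
    = ?xq9030 → (List ℤ)) ?hq9030; (case hq9030 => (set_option maxRecDepth 1000000 in conv => lhs; reduce)); intro _; exact ?xq9030 : List ℤ)

/-- the values at the type 30 -/
def cX30 : List ℤ :=
  (by
  refine (?fq9031 : ((pk61l (fun i1 => (pk61z (pk61d (nat_lit 12) 
    (nat_lit 0x7f20345b1341343351b00cb1fc0230062cb1ee0561010130393cc21c0001af0970530d70350000a15f83000005df5e80000358a567c46e67f3803b545067f3800a746e2c704b1702032cc46d25f2a443705e3143643294f11012460cf07403a032032) i1))) (nat_lit 0) (nat_lit 66) List.nil) : List ℤ)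
    = ?xq9031 → (List ℤ)) ?hq9031; (case hq9031 => (set_option maxRecDepth 1000000 in conv => lhs; reduce)); intro _; exact ?xq9031 : List ℤ)

/-- the values at the type 31 -/
def cX31 : List ℤ :=
  (by
  refine (?fq9032 : ((pk61l (fun i1 => (pk61z (pk61d (nat_lit 10) 
    (nat_lit 0xa09b3f1232dd38ab0cb190230f0730e22403004260006c0006c1c02fcd86bc00a20afc00006fdb00021c35c2b0007f9fe802fc7f9fc3b50c5769edfa83d450c2bee06c40d5f5bd441522833134290ac0b050) i1))) (nat_lit 0) (nat_lit 66) List.nil) : List ℤ)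
    = ?xq9032 → (List ℤ)) ?hq9032; (case hq9032 => (set_option maxRecDepth 1000000 in conv => lhs; reduce)); intro _; exact ?xq9032 : List ℤ)

/-- the values at the type 32 -/
def cX32 : List ℤ :=
  (by
  refine (?fq9033 : ((pk61l (fun i1 => (pk61z (pk61d (nat_lit 9) 
    (nat_lit 0x264e3ea48b89baa99862120e8e837110280496006b801aedf301adb000a1962fe007035c010d360580040a04fcc040a0079442c6a5c29fe95105bb635412c170a114c4cca99289542a27) i1))) (nat_lit 0) (nat_lit 66) List.nil) : List ℤ)
    = ?xq9033 → (List ℤ)) ?hq9033; (case hq9033 => (set_option maxRecDepth 1000000 in conv => lhs; reduce)); intro _; exact ?xq9033 : List ℤ)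

/-- the values at the type 33 -/
def cX33 : List ℤ :=
  (by
  refine (?fq9034 : ((pk61l (fun i1 => (pk61z (pk61d (nat_lit 12) 
    (nat_lit 0x11f3175581f81f85332404383173172ab1f80242f40fb0480b479728800011f8700d708f2f30005c409000000024050f0002f318c5e81440000006531200000007501443ef3a73603a83171432405581b02640d80d806b3840fb06b11f04706c023023) i1))) (nat_lit 0) (nat_lit 66) List.nil) : List ℤ)
    = ?xq9034 → (List ℤ)) ?hq9034; (case hq9034 => (set_option maxRecDepth 1000000 in conv => lhs; reduce)); intro _; exact ?xq9034 : List ℤ)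

/-- the values at the type 34 -/
def cX34 : List ℤ :=
  (by
  refine (?fq9035 : ((pk61l (fun i1 => (pk61z (pk61d (nat_lit 11) 
    (nat_lit 0x4818c5563ec7da9a23e86cc618c2ac3ec089790fc08c2cbcc286000484370d8120bd0005c211c0000023ea200017a18abcc50800000ca847800000e9c509f83a86bce998c14447d558d72621ac358363821f81b0900480d409012) i1))) (nat_lit 0) (nat_lit 66) List.nil) : List ℤ)
    = ?xq9035 → (List ℤ)) ?hq9035; (case hq9035 => (set_option maxRecDepth 1000000 in conv => lhs; reduce)); intro _; exact ?xq9035 : List ℤ)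

/-- the values at the type 35 -/
def cX35 : List ℤ :=
  (by
  refine (?fq9036 : ((pk61l (fun i1 => (pk61z (pk61d (nat_lit 13) 
    (nat_lit 0x2d05c46ae3571a6e1678161950b88d5c6ae13b0cf0b6442617103f000043800007e0000000059d7a00004ebcebc00000059fa1c0000ec34eb8bd0000000000000263e0000001b916c69d74ec00011feccb5b1a12c3f02f385e000179eb64275b4dc5e64eb3720bcc31808f) i1))) (nat_lit 0) (nat_lit 66) List.nil) : List ℤ)
    = ?xq9036 → (List ℤ)) ?hq9036; (case hq9036 => (set_option maxRecDepth 1000000 in conv => lhs; reduce)); intro _; exact ?xq9036 : List ℤ)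

/-- the values at the type 36 -/
def cX36 : List ℤ :=
  (by
  refine (?fq9037 : ((pk61l (fun i1 => (pk61z (pk61d (nat_lit 12) 
    (nat_lit 0xb32e16ad6ad69c0b48153292e16ad6ad27533b5b14252e10fb0004370001f70000000b45e70004ec9d80000005a04370007624ec1790000000000009900000003715b24ec4eb0004806665b24260fb17a85d0005e85b127669c17a27637117a0c5048) i1))) (nat_lit 0) (nat_lit 66) List.nil) : List ℤ)
    = ?xq9037 → (List ℤ)) ?hq9037; (case hq9037 => (set_option maxRecDepth 1000000 in conv => lhs; reduce)); intro _; exact ?xq9037 : List ℤ)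

/-- the values at the type 37 -/
def cX37 : List ℤ :=
  (by
  refine (?fq9038 : ((pk61l (fun i1 => (pk61z (pk61d (nat_lit 14) 
    (nat_lit 0x8b0053f1aff27fb00234023fcc0013018c04e00dc002008c03000a000800000000000000011802a00000000000000022ff30000001400000000000000016c0a1fcdff08008bf4500dff0801500a200e00230213f0f006ff00016c013fc0005b01f4022fc00029fc17f14fc1bf1d001ff080003f) i1))) (nat_lit 0) (nat_lit 66) List.nil) : List ℤ)
    = ?xq9038 → (List ℤ)) ?hq9038; (case hq9038 => (set_option maxRecDepth 1000000 in conv => lhs; reduce)); intro _; exact ?xq9038 : List ℤ)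

/-- the values at the type 38 -/
def cX38 : List ℤ :=
  (by
  refine (?fq9039 : ((pk61l (fun i1 => (pk61z (pk61d (nat_lit 13) 
    (nat_lit 0x22be2a01b06502bff19f24017fc4bec5f4df9b7c07e45f2ff93fc1fe00000000000008bf29f80000000000004600bfe00013f80000000000002d7e88070007f918113e70007fa9fe87e6ff22fc2803be3800002d7c5000005afbe7c8c00002a003005400e01cf84001fe020) i1))) (nat_lit 0) (nat_lit 66) List.nil) : List ℤ)
    = ?xq9039 → (List ℤ)) ?hq9039; (case hq9039 => (set_option maxRecDepth 1000000 in conv => lhs; reduce)); intro _; exact ?xq9039 : List ℤ)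

/-- the values at the type 39 -/
def cX39 : List ℤ :=
  (by
  refine (?fq9040 : ((pk61l (fun i1 => (pk61z (nat_lit 0))) (nat_lit 0) (nat_lit 66) List.nil) : List ℤ)
    = ?xq9040 → (List ℤ)) ?hq9040; (case hq9040 => (set_option maxRecDepth 1000000 in conv => lhs; reduce)); intro _; exact ?xq9040 : List ℤ)

/-- the values at the type 40 -/
def cX40 : List ℤ :=
  (by
  refine (?fq9041 : ((pk61l (fun i1 => (pk61z (pk61d (nat_lit 8) 
    (nat_lit 0x1700186c18181717ef1818483b6c3c6c5400007700000000005300001784770023005400545353003b3c3c001800005323002400535f0054545f007800603c543c24) i1))) (nat_lit 0) (nat_lit 66) List.nil) : List ℤ)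
    = ?xq9041 → (List ℤ)) ?hq9041; (case hq9041 => (set_option maxRecDepth 1000000 in conv => lhs; reduce)); intro _; exact ?xq9041 : List ℤ)

/-- the values at the type 41 -/
def cX41 : List ℤ :=
  (by
  refine (?fq9042 : ((pk61l (fun i1 => (pk61z (pk61d (nat_lit 7) 
    (nat_lit 0x60016d458b1833c0b168cf353ad548000f0000000002a0000641780090052014aa5400f1d3a0058000a8900220153000a54b000ec02f3aa4e91) i1))) (nat_lit 0) (nat_lit 66) List.nil) : List ℤ)
    = ?xq9042 → (List ℤ)) ?hq9042; (case hq9042 => (set_option maxRecDepth 1000000 in conv => lhs; reduce)); intro _; exact ?xq9042 : List ℤ)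

/-- the values at the type 42 -/
def cX42 : List ℤ :=
  (by
  refine (?fq9043 : ((pk61l (fun i1 => (pk61z (pk61d (nat_lit 6) 
    (nat_lit 0x5b08208204120209408204b0006d700001c00000031780e48000000000064c3000800004800cd023000015003008300043) i1))) (nat_lit 0) (nat_lit 66) List.nil) : List ℤ)
    = ?xq9043 → (List ℤ)) ?hq9043; (case hq9043 => (set_option maxRecDepth 1000000 in conv => lhs; reduce)); intro _; exact ?xq9043 : List ℤ)

/-- the values at the type 43 -/
def cX43 : List ℤ :=
  (by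
  refine (?fq9044 : ((pk61l (fun i1 => (pk61z (pk61d (nat_lit 7) 
    (nat_lit 0x238060c1830810783069c183086000070c000000dc0000000bb07e6d18000000000001a172e0018000011801070048000002c002000f2e00208) i1))) (nat_lit 0) (nat_lit 66) List.nil) : List ℤ)
    = ?xq9044 → (List ℤ)) ?hq9044; (case hq9044 => (set_option maxRecDepth 1000000 in conv => lhs; reduce)); intro _; exact ?xq9044 : List ℤ)

/-- the values at the type 44 -/
def cX44 : List ℤ :=
  (by
  refine (?fq9045 : ((pk61l (fun i1 => (pk61z (pk61d (nat_lit 6) 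
    (nat_lit 0x1cb30c31c3cb2c020bd0f1cb408a170183d84e4ac00170008d08185000200000002004c002b1003003c80100dfb0c634520) i1))) (nat_lit 0) (nat_lit 66) List.nil) : List ℤ)
    = ?xq9045 → (List ℤ)) ?hq9045; (case hq9045 => (set_option maxRecDepth 1000000 in conv => lhs; reduce)); intro _; exact ?xq9045 : List ℤ)

/-- the values at the type 45 -/
def cX45 : List ℤ :=
  (by
  refine (?fq9046 : ((pk61l (fun i1 => (pk61z (pk61d (nat_lit 5) 
    (nat_lit 0x86294ad418c019b28218e39b00b42d51b000c002477ad2003c000006050016080a040c07142a55e52f) i1))) (nat_lit 0) (nat_lit 66) List.nil) : List ℤ)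
    = ?xq9046 → (List ℤ)) ?hq9046; (case hq9046 => (set_option maxRecDepth 1000000 in conv => lhs; reduce)); intro _; exact ?xq9046 : List ℤ)

/-- the values at the type 46 -/
def cX46 : List ℤ :=
  (by
  refine (?fq9047 : ((pk61l (fun i1 => (pk61z (pk61d (nat_lit 7) 
    (nat_lit 0xc0b18306235e2c5802e2c5b08e2d8482e5c018606063b160001700011b0006058000000000000b80180000b4800600605c030460060c302c580) i1))) (nat_lit 0) (nat_lit 66) List.nil) : List ℤ)
    = ?xq9047 → (List ℤ)) ?hq9047; (case hq9047 => (set_option maxRecDepth 1000000 in conv => lhs; reduce)); intro _; exact ?xq9047 : List ℤ)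

/-- the values at the type 47 -/
def cX47 : List ℤ :=
  (by
  refine (?fq9048 : ((pk61l (fun i1 => (pk61z (pk61d (nat_lit 6) 
    (nat_lit 0x2c61451526061803061979065e330c00b5cb15e18000c00049700b1800000000003001400064401405cc0174801452c6180) i1))) (nat_lit 0) (nat_lit 66) List.nil) : List ℤ)
    = ?xq9048 → (List ℤ)) ?hq9048; (case hq9048 => (set_option maxRecDepth 1000000 in conv => lhs; reduce)); intro _; exact ?xq9048 : List ℤ)

/-- the values at the type 48 -/
def cX48 : List ℤ :=
  (by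
  refine (?fq9049 : ((pk61l (fun i1 => (pk61z (pk61d (nat_lit 6) 
    (nat_lit 0x2040c371340410f2042cf1c40175d7018bf830b2c001800030f0082c000000001f1c030000411f3203d80100c00c3204100) i1))) (nat_lit 0) (nat_lit 66) List.nil) : List ℤ)
    = ?xq9049 → (List ℤ)) ?hq9049; (case hq9049 => (set_option maxRecDepth 1000000 in conv => lhs; reduce)); intro _; exact ?xq9049 : List ℤ)

/-- the values at the type 49 -/
def cX49 : List ℤ :=
  (by
  refine (?fq9050 : ((pk61l (fun i1 => (pk61z (pk61d (nat_lit 5) 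
    (nat_lit 0x61109aa38428184c82040c6300bc6ca63000b000a800cc00000004080280010c0af42c071004218420) i1))) (nat_lit 0) (nat_lit 66) List.nil) : List ℤ)
    = ?xq9050 → (List ℤ)) ?hq9050; (case hq9050 => (set_option maxRecDepth 1000000 in conv => lhs; reduce)); intro _; exact ?xq9050 : List ℤ)

/-- the values at the type 50 -/
def cX50 : List ℤ :=
  (by
  refine (?fq9051 : ((pk61l (fun i1 => (pk61z (nat_lit 0))) (nat_lit 0) (nat_lit 66) List.nil) : List ℤ)
    = ?xq9051 → (List ℤ)) ?hq9051; (case hq9051 => (set_option maxRecDepth 1000000 in conv => lhs; reduce)); intro _; exact ?xq9051 : List ℤ)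

/-- the values at the type 51 -/
def cX51 : List ℤ :=
  (by
  refine (?fq9052 : ((pk61l (fun i1 => (pk61z (pk61d (nat_lit 6) 
    (nat_lit 0x5c00186000005c001761801760000002f00000001700060000001801862f0175c000c31701800b5c02d75c0000018318318) i1))) (nat_lit 0) (nat_lit 66) List.nil) : List ℤ)
    = ?xq9052 → (List ℤ)) ?hq9052; (case hq9052 => (set_option maxRecDepth 1000000 in conv => lhs; reduce)); intro _; exact ?xq9052 : List ℤ)

/-- the values at the type 52 -/
def cX52 : List ℤ :=
  (by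
  refine (?fq9053 : ((pk61l (fun i1 => (pk61z (pk61d (nat_lit 5) 
    (nat_lit 0x18002d60001800316b031600001800000030005800002c0b5e00c600052b00b01980331800000b2acab) i1))) (nat_lit 0) (nat_lit 66) List.nil) : List ℤ)
    = ?xq9053 → (List ℤ)) ?hq9053; (case hq9053 => (set_option maxRecDepth 1000000 in conv => lhs; reduce)); intro _; exact ?xq9053 : List ℤ)

/-- the values at the type 53 -/
def cX53 : List ℤ :=
  (by
  refine (?fq9054 : ((pk61l (fun i1 => (pk61z (nat_lit 0))) (nat_lit 0) (nat_lit 66) List.nil) : List ℤ)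
    = ?xq9054 → (List ℤ)) ?hq9054; (case hq9054 => (set_option maxRecDepth 1000000 in conv => lhs; reduce)); intro _; exact ?xq9054 : List ℤ)

/-- the values at the type 54 -/
def cX54 : List ℤ :=
  (by
  refine (?fq9055 : ((pk61l (fun i1 => (pk61z (nat_lit 0))) (nat_lit 0) (nat_lit 66) List.nil) : List ℤ)
    = ?xq9055 → (List ℤ)) ?hq9055; (case hq9055 => (set_option maxRecDepth 1000000 in conv => lhs; reduce)); intro _; exact ?xq9055 : List ℤ)

/-- the values at the type 55 -/
def cX55 : List ℤ :=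
  (by
  refine (?fq9056 : ((pk61l (fun i1 => (pk61z (pk61d (nat_lit 10) 
    (nat_lit 0x62d441ac8f74d4335cd762db0870901218c511682d000000000016735c00000000016835c00b400000000000b40002308cb4870b32ce1b000242cc248708f000b45a0002d0902cc0035cd735c8f5a08f24023) i1))) (nat_lit 0) (nat_lit 66) List.nil) : List ℤ)
    = ?xq9056 → (List ℤ)) ?hq9056; (case hq9056 => (set_option maxRecDepth 1000000 in conv => lhs; reduce)); intro _; exact ?xq9056 : List ℤ)

/-- the values at the type 56 -/
def cX56 : List ℤ :=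
  (by
  refine (?fq9057 : ((pk61l (fun i1 => (pk61z (pk61d (nat_lit 9) 
    (nat_lit 0x18ca11b121d4a2361b18cd78691c46c550accb2000000000b4360000000002ccd800b38000000001640012091661a5a2d43800112d0461a480016566002c91cb400361b0d848599208e12) i1))) (nat_lit 0) (nat_lit 66) List.nil) : List ℤ)
    = ?xq9057 → (List ℤ)) ?hq9057; (case hq9057 => (set_option maxRecDepth 1000000 in conv => lhs; reduce)); intro _; exact ?xq9057 : List ℤ)

/-- the values at the type 57 -/
def cX57 : List ℤ :=
  (by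
  refine (?fq9058 : ((pk61l (fun i1 => (pk61z (nat_lit 0))) (nat_lit 0) (nat_lit 66) List.nil) : List ℤ)
    = ?xq9058 → (List ℤ)) ?hq9058; (case hq9058 => (set_option maxRecDepth 1000000 in conv => lhs; reduce)); intro _; exact ?xq9058 : List ℤ)

/-- the values at the type 58 -/
def cX58 : List ℤ :=
  (by
  refine (?fq9059 : ((pk61l (fun i1 => (pk61z (pk61d (nat_lit 6) 
    (nat_lit 0xf60c0c00003d76186cf4034000003c06001d800000c0005c05c35c000010000411800c8107c37c41cb8205cf4001073c8) i1))) (nat_lit 0) (nat_lit 66) List.nil) : List ℤ)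
    = ?xq9059 → (List ℤ)) ?hq9059; (case hq9059 => (set_option maxRecDepth 1000000 in conv => lhs; reduce)); intro _; exact ?xq9059 : List ℤ)

/-- the values at the type 59 -/
def cX59 : List ℤ :=
  (by
  refine (?fq9060 : ((pk61l (fun i1 => (pk61z (pk61d (nat_lit 5) 
    (nat_lit 0x8594400010c5adc8388e0001005808b000050018060980000200042b015e780a01219ef620e009103) i1))) (nat_lit 0) (nat_lit 66) List.nil) : List ℤ)
    = ?xq9060 → (List ℤ)) ?hq9060; (case hq9060 => (set_option maxRecDepth 1000000 in conv => lhs; reduce)); intro _; exact ?xq9060 : List ℤ)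

/-- the values at the type 60 -/
def cX60 : List ℤ :=
  (by
  refine (?fq9061 : ((pk61l (fun i1 => (pk61z (pk61d (nat_lit 7) 
    (nat_lit 0x7bf30709901e7d0382e5cdb03e3180000017804e00bc80000f8c0000c00304cb8f6000a0f6050587008c00f004c0240e2c0002e807902820808) i1))) (nat_lit 0) (nat_lit 66) List.nil) : List ℤ)
    = ?xq9061 → (List ℤ)) ?hq9061; (case hq9061 => (set_option maxRecDepth 1000000 in conv => lhs; reduce)); intro _; exact ?xq9061 : List ℤ)

/-- the values at the type 61 -/
def cX61 : List ℤ :=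
  (by
  refine (?fq9062 : ((pk61l (fun i1 => (pk61z (pk61d (nat_lit 6) 
    (nat_lit 0x2202cd2872103db30c3974055c00006005003230004050002c02ca3085c02485c918401200800a01110600030f2072431c3) i1))) (nat_lit 0) (nat_lit 66) List.nil) : List ℤ)
    = ?xq9062 → (List ℤ)) ?hq9062; (case hq9062 => (set_option maxRecDepth 1000000 in conv => lhs; reduce)); intro _; exact ?xq9062 : List ℤ)

/-- the values at the type 62 -/
def cX62 : List ℤ :=
  (by
  refine (?fq9063 : ((pk61l (fun i1 => (pk61z (pk61d (nat_lit 5) 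
    (nat_lit 0xe7421081bce841d0459d880600001c0b0310021c07001631800c60000200005800000160000000308c) i1))) (nat_lit 0) (nat_lit 66) List.nil) : List ℤ)
    = ?xq9063 → (List ℤ)) ?hq9063; (case hq9063 => (set_option maxRecDepth 1000000 in conv => lhs; reduce)); intro _; exact ?xq9063 : List ℤ)

/-- the values at the type 63 -/
def cX63 : List ℤ :=
  (by
  refine (?fq9064 : ((pk61l (fun i1 => (pk61z (pk61d (nat_lit 4) 
    (nat_lit 0x4433332843343164530b0004060530140400622005500010006000006000000515) i1))) (nat_lit 0) (nat_lit 66) List.nil) : List ℤ)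
    = ?xq9064 → (List ℤ)) ?hq9064; (case hq9064 => (set_option maxRecDepth 1000000 in conv => lhs; reduce)); intro _; exact ?xq9064 : List ℤ)

/-- the values at the type 64 -/
def cX64 : List ℤ :=
  (by
  refine (?fq9065 : ((pk61l (fun i1 => (pk61z (pk61d (nat_lit 7) 
    (nat_lit 0x10080e9c3933e604080920a04285c248900000f10bd1804800000000000c182059f400cfa03e3c5bf0e8039818fcbb0366040b162cd800e30603) i1))) (nat_lit 0) (nat_lit 66) List.nil) : List ℤ)
    = ?xq9065 → (List ℤ)) ?hq9065; (case hq9065 => (set_option maxRecDepth 1000000 in conv => lhs; reduce)); intro _; exact ?xq9065 : List ℤ)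

/-- the values at the type 65 -/
def cX65 : List ℤ :=
  (by
  refine (?fq9066 : ((pk61l (fun i1 => (pk61z (pk61d (nat_lit 6) 
    (nat_lit 0x3c311410a40b0c306324124c0638c00080d84804400000000051431903c240f4081a010f10b16031738b0c6186380105142) i1))) (nat_lit 0) (nat_lit 66) List.nil) : List ℤ)
    = ?xq9066 → (List ℤ)) ?hq9066; (case hq9066 => (set_option maxRecDepth 1000000 in conv => lhs; reduce)); intro _; exact ?xq9066 : List ℤ)

/-- the values at the type 66 -/
def cX66 : List ℤ :=
  (by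
  refine (?fq9067 : ((pk61l (fun i1 => (pk61z (pk61d (nat_lit 5) 
    (nat_lit 0x1e742110780e843c0039d00801e00410081c0001c0839c000000001c0740000001074010001ce002108) i1))) (nat_lit 0) (nat_lit 66) List.nil) : List ℤ)
    = ?xq9067 → (List ℤ)) ?hq9067; (case hq9067 => (set_option maxRecDepth 1000000 in conv => lhs; reduce)); intro _; exact ?xq9067 : List ℤ)

/-- the values at the type 67 -/
def cX67 : List ℤ :=
  (by
  refine (?fq9068 : ((pk61l (fun i1 => (pk61z (pk61d (nat_lit 4) 
    (nat_lit 0x843337804338004430708007307400040344000000040430000034303004400333) i1))) (nat_lit 0) (nat_lit 66) List.nil) : List ℤ)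
    = ?xq9068 → (List ℤ)) ?hq9068; (case hq9068 => (set_option maxRecDepth 1000000 in conv => lhs; reduce)); intro _; exact ?xq9068 : List ℤ)

/-- the values at the type 68 -/
def cX68 : List ℤ :=
  (by
  refine (?fq9069 : ((pk61l (fun i1 => (pk61z (pk61d (nat_lit 6) 
    (nat_lit 0x2040c32070cb1030c35cb7042004003c00073c01d00000100031c400000000000430720000b30b2130c03e49074e42c30cf) i1))) (nat_lit 0) (nat_lit 66) List.nil) : List ℤ)
    = ?xq9069 → (List ℤ)) ?hq9069; (case hq9069 => (set_option maxRecDepth 1000000 in conv => lhs; reduce)); intro _; exact ?xq9069 : List ℤ)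

/-- the values at the type 69 -/
def cX69 : List ℤ :=
  (by
  refine (?fq9070 : ((pk61l (fun i1 => (pk61z (pk61d (nat_lit 5) 
    (nat_lit 0x6110864118221098668460381000110021c0001c022040000000004a4180062986a101118915130848) i1))) (nat_lit 0) (nat_lit 66) List.nil) : List ℤ)
    = ?xq9070 → (List ℤ)) ?hq9070; (case hq9070 => (set_option maxRecDepth 1000000 in conv => lhs; reduce)); intro _; exact ?xq9070 : List ℤ)

/-- the values at the type 70 -/
def cX70 : List ℤ :=
  (by
  refine (?fq9071 : ((pk61l (fun i1 => (pk61z (nat_lit 0))) (nat_lit 0) (nat_lit 66) List.nil) : List ℤ)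
    = ?xq9071 → (List ℤ)) ?hq9071; (case hq9071 => (set_option maxRecDepth 1000000 in conv => lhs; reduce)); intro _; exact ?xq9071 : List ℤ)

/-- the values at the type 71 -/
def cX71 : List ℤ :=
  (by
  refine (?fq9072 : ((pk61l (fun i1 => (pk61z (pk61d (nat_lit 5) 
    (nat_lit 0x10320cf09b06322d041ae000000f7dc00000000000bc0c107bcef80d683a0ec58f0b1e10c5806c22d68) i1))) (nat_lit 0) (nat_lit 66) List.nil) : List ℤ)
    = ?xq9072 → (List ℤ)) ?hq9072; (case hq9072 => (set_option maxRecDepth 1000000 in conv => lhs; reduce)); intro _; exact ?xq9072 : List ℤ)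

/-- the values at the type 72 -/
def cX72 : List ℤ :=
  (by
  refine (?fq9073 : ((pk61l (fun i1 => (pk61z (pk61d (nat_lit 4) 
    (nat_lit 0x321247a5221631267000088c0000000006b20788487263434562b62b3560251663) i1))) (nat_lit 0) (nat_lit 66) List.nil) : List ℤ)
    = ?xq9073 → (List ℤ)) ?hq9073; (case hq9073 => (set_option maxRecDepth 1000000 in conv => lhs; reduce)); intro _; exact ?xq9073 : List ℤ)

/-- the values at the type 73 -/
def cX73 : List ℤ :=
  (by
  refine (?fq9074 : ((pk61l (fun i1 => (pk61z (pk61d (nat_lit 6) 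
    (nat_lit 0x3c720821c3d71e76c8924107517a0082f5d00c01100000100034c72c000c0000102d0e0061730021051820b2c41005c30c3) i1))) (nat_lit 0) (nat_lit 66) List.nil) : List ℤ)
    = ?xq9074 → (List ℤ)) ?hq9074; (case hq9074 => (set_option maxRecDepth 1000000 in conv => lhs; reduce)); intro _; exact ?xq9074 : List ℤ)

/-- the values at the type 74 -/
def cX74 : List ℤ :=
  (by
  refine (?fq9075 : ((pk61l (fun i1 => (pk61z (pk61d (nat_lit 5) 
    (nat_lit 0x10418c6d4309470e310912c981f861c4009c0001c02510c00140001cc7d816c280674ac663042060842) i1))) (nat_lit 0) (nat_lit 66) List.nil) : List ℤ)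
    = ?xq9075 → (List ℤ)) ?hq9075; (case hq9075 => (set_option maxRecDepth 1000000 in conv => lhs; reduce)); intro _; exact ?xq9075 : List ℤ)

/-- the values at the type 75 -/
def cX75 : List ℤ :=
  (by
  refine (?fq9076 : ((pk61l (fun i1 => (pk61z (nat_lit 0))) (nat_lit 0) (nat_lit 66) List.nil) : List ℤ)
    = ?xq9076 → (List ℤ)) ?hq9076; (case hq9076 => (set_option maxRecDepth 1000000 in conv => lhs; reduce)); intro _; exact ?xq9076 : List ℤ)

/-- the values at the type 76 -/
def cX76 : List ℤ :=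
  (by
  refine (?fq9077 : ((pk61l (fun i1 => (pk61z (pk61d (nat_lit 6) 
    (nat_lit 0x306a9d8cc49e19d1453064912c05c0630bcb5c03180000170052c600000060002948b3175d14918dd49700644c146185140) i1))) (nat_lit 0) (nat_lit 66) List.nil) : List ℤ)
    = ?xq9077 → (List ℤ)) ?hq9077; (case hq9077 => (set_option maxRecDepth 1000000 in conv => lhs; reduce)); intro _; exact ?xq9077 : List ℤ)

/-- the values at the type 77 -/
def cX77 : List ℤ :=
  (by
  refine (?fq9078 : ((pk61l (fun i1 => (pk61z (pk61d (nat_lit 7) 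
    (nat_lit 0xb8ba6f241746ec5bc1830b8b4690c0060017dfc0618002ebc00000c000c302c000000178001511982ec1824469243c46c000b485c60b1630600) i1))) (nat_lit 0) (nat_lit 66) List.nil) : List ℤ)
    = ?xq9078 → (List ℤ)) ?hq9078; (case hq9078 => (set_option maxRecDepth 1000000 in conv => lhs; reduce)); intro _; exact ?xq9078 : List ℤ)

/-- the values at the type 78 -/
def cX78 : List ℤ :=
  (by
  refine (?fq9079 : ((pk61l (fun i1 => (pk61z (nat_lit 0))) (nat_lit 0) (nat_lit 66) List.nil) : List ℤ)
    = ?xq9079 → (List ℤ)) ?hq9079; (case hq9079 => (set_option maxRecDepth 1000000 in conv => lhs; reduce)); intro _; exact ?xq9079 : List ℤ)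

/-- the values at the type 79 -/
def cX79 : List ℤ :=
  (by
  refine (?fq9080 : ((pk61l (fun i1 => (pk61z (pk61d (nat_lit 8) 
    (nat_lit 0xf0f1020401040000f0f1f3020703f0040000000009f200000000000000000000000000f5f403f50103f403f603f4f0f4f00000f00000f2f5000605f0f2f1000000f) i1))) (nat_lit 0) (nat_lit 66) List.nil) : List ℤ)
    = ?xq9080 → (List ℤ)) ?hq9080; (case hq9080 => (set_option maxRecDepth 1000000 in conv => lhs; reduce)); intro _; exact ?xq9080 : List ℤ)

/-- the values at the type 80 -/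
def cX80 : List ℤ :=
  (by
  refine (?fq9081 : ((pk61l (fun i1 => (pk61z (pk61d (nat_lit 7) 
    (nat_lit 0x4080e3cf873e00408205c7b74000f8000000501e0000000000000000000002181f409c3a03e817a05021400002000010613805ec04180e00008) i1))) (nat_lit 0) (nat_lit 66) List.nil) : List ℤ)
    = ?xq9081 → (List ℤ)) ?hq9081; (case hq9081 => (set_option maxRecDepth 1000000 in conv => lhs; reduce)); intro _; exact ?xq9081 : List ℤ)

/-- the values at the type 81 -/
def cX81 : List ℤ :=
  (by
  refine (?fq9082 : ((pk61l (fun i1 => (pk61z (pk61d (nat_lit 9) 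
    (nat_lit 0xc017539e08ecc0041c2e1705861085412120a8d73b800bef00b8c0a600420c00000000bc00cc0605c4800002ccbe00000bc48300c180ee48118008e30120608e541226c165f3c14c7823) i1))) (nat_lit 0) (nat_lit 66) List.nil) : List ℤ)
    = ?xq9082 → (List ℤ)) ?hq9082; (case hq9082 => (set_option maxRecDepth 1000000 in conv => lhs; reduce)); intro _; exact ?xq9082 : List ℤ)

/-- the values at the type 82 -/
def cX82 : List ℤ :=
  (by
  refine (?fq9083 : ((pk61l (fun i1 => (pk61z (pk61d (nat_lit 8) 
    (nat_lit 0x2f0c543b246500840c0c060b41291123296c3c0030770c172a004117000000180065050c1100005a3000001811170b2f3c2312002417110b2429114e06303b2a1d12) i1))) (nat_lit 0) (nat_lit 66) List.nil) : List ℤ)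
    = ?xq9083 → (List ℤ)) ?hq9083; (case hq9083 => (set_option maxRecDepth 1000000 in conv => lhs; reduce)); intro _; exact ?xq9083 : List ℤ)

/-- the values at the type 83 -/
def cX83 : List ℤ :=
  (by
  refine (?fq9084 : ((pk61l (fun i1 => (pk61z (nat_lit 0))) (nat_lit 0) (nat_lit 66) List.nil) : List ℤ)
    = ?xq9084 → (List ℤ)) ?hq9084; (case hq9084 => (set_option maxRecDepth 1000000 in conv => lhs; reduce)); intro _; exact ?xq9084 : List ℤ)

/-- the values at the type 84 -/
def cX84 : List ℤ :=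
  (by
  refine (?fq9085 : ((pk61l (fun i1 => (pk61z (pk61d (nat_lit 5) 
    (nat_lit 0x16bc31985ad6c62c0c58300063180000b5800b030000000c6000b5800003000000005818b0016000180) i1))) (nat_lit 0) (nat_lit 66) List.nil) : List ℤ)
    = ?xq9085 → (List ℤ)) ?hq9085; (case hq9085 => (set_option maxRecDepth 1000000 in conv => lhs; reduce)); intro _; exact ?xq9085 : List ℤ)

/-- the values at the type 85 -/
def cX85 : List ℤ :=
  (by
  refine (?fq9086 : ((pk61l (fun i1 => (pk61z (pk61d (nat_lit 4) 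
    (nat_lit 0x66b55b6665560560b00bbb00066006050000055006600005000000605600600050) i1))) (nat_lit 0) (nat_lit 66) List.nil) : List ℤ)
    = ?xq9086 → (List ℤ)) ?hq9086; (case hq9086 => (set_option maxRecDepth 1000000 in conv => lhs; reduce)); intro _; exact ?xq9086 : List ℤ)

/-- the values at the type 86 -/
def cX86 : List ℤ :=
  (by
  refine (?fq9087 : ((pk61l (fun i1 => (pk61z (pk61d (nat_lit 5) 
    (nat_lit 0xe040d0839de841c8c98e8005c000000c000eb381805808c1808c181000306058060011600200019064) i1))) (nat_lit 0) (nat_lit 66) List.nil) : List ℤ)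
    = ?xq9087 → (List ℤ)) ?hq9087; (case hq9087 => (set_option maxRecDepth 1000000 in conv => lhs; reduce)); intro _; exact ?xq9087 : List ℤ)

/-- the values at the type 87 -/
def cX87 : List ℤ :=
  (by
  refine (?fq9088 : ((pk61l (fun i1 => (pk61z (pk61d (nat_lit 4) 
    (nat_lit 0x40323344833415a2900c0000050046405060152015203005206020016003002121) i1))) (nat_lit 0) (nat_lit 66) List.nil) : List ℤ)
    = ?xq9088 → (List ℤ)) ?hq9088; (case hq9088 => (set_option maxRecDepth 1000000 in conv => lhs; reduce)); intro _; exact ?xq9088 : List ℤ)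

/-- the values at the type 88 -/
def cX88 : List ℤ :=
  (by
  refine (?fq9089 : ((pk61l (fun i1 => (pk61z (pk61d (nat_lit 3) 
    (nat_lit 0x142494a120950080010000086800000801000864000110000b) i1))) (nat_lit 0) (nat_lit 66) List.nil) : List ℤ)
    = ?xq9089 → (List ℤ)) ?hq9089; (case hq9089 => (set_option maxRecDepth 1000000 in conv => lhs; reduce)); intro _; exact ?xq9089 : List ℤ)

/-- the values at the type 89 -/
def cX89 : List ℤ :=
  (by
  refine (?fq9090 : ((pk61l (fun i1 => (pk61z (pk61d (nat_lit 4) 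
    (nat_lit 0x37444433744044370070000700000074c000000040003000408400000407000048) i1))) (nat_lit 0) (nat_lit 66) List.nil) : List ℤ)
    = ?xq9090 → (List ℤ)) ?hq9090; (case hq9090 => (set_option maxRecDepth 1000000 in conv => lhs; reduce)); intro _; exact ?xq9090 : List ℤ)

/-- the values at the type 90 -/
def cX90 : List ℤ :=
  (by
  refine (?fq9091 : ((pk61l (fun i1 => (pk61z (pk61d (nat_lit 5) 
    (nat_lit 0xf38208839c87c1c9422d80002e080180000e000000030073816002d88021636318c59d6b3908858c84) i1))) (nat_lit 0) (nat_lit 66) List.nil) : List ℤ)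
    = ?xq9091 → (List ℤ)) ?hq9091; (case hq9091 => (set_option maxRecDepth 1000000 in conv => lhs; reduce)); intro _; exact ?xq9091 : List ℤ)

/-- the values at the type 91 -/
def cX91 : List ℤ :=
  (by
  refine (?fq9092 : ((pk61l (fun i1 => (pk61z (pk61d (nat_lit 4) 
    (nat_lit 0x4a73134414b419165000c070500040000005044060065303625555646641136211) i1))) (nat_lit 0) (nat_lit 66) List.nil) : List ℤ)
    = ?xq9092 → (List ℤ)) ?hq9092; (case hq9092 => (set_option maxRecDepth 1000000 in conv => lhs; reduce)); intro _; exact ?xq9092 : List ℤ)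

/-- the values at the type 92 -/
def cX92 : List ℤ :=
  (by
  refine (?fq9093 : ((pk61l (fun i1 => (pk61z (pk61d (nat_lit 7) 
    (nat_lit 0x993269f21426a0993793d4505001e00000000050000000001400000000000ede132601e3c78f1d94005002700ec000773c000264c9a7789d413) i1))) (nat_lit 0) (nat_lit 66) List.nil) : List ℤ)
    = ?xq9093 → (List ℤ)) ?hq9093; (case hq9093 => (set_option maxRecDepth 1000000 in conv => lhs; reduce)); intro _; exact ?xq9093 : List ℤ)

/-- the values at the type 93 -/
def cX93 : List ℤ :=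
  (by
  refine (?fq9094 : ((pk61l (fun i1 => (pk61z (pk61d (nat_lit 6) 
    (nat_lit 0x28a294c4929328a7684e74c07400000004c00000004c000000001e74a28075d75d78900901401e0007a800028a2947544ca) i1))) (nat_lit 0) (nat_lit 66) List.nil) : List ℤ)
    = ?xq9094 → (List ℤ)) ?hq9094; (case hq9094 => (set_option maxRecDepth 1000000 in conv => lhs; reduce)); intro _; exact ?xq9094 : List ℤ)

/-- the values at the type 94 -/
def cX94 : List ℤ :=
  (by
  refine (?fq9095 : ((pk61l (fun i1 => (pk61z (pk61d (nat_lit 5) 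
    (nat_lit 0x939be63240e459c832300000300383000020000000031842016c62d8300d835b17801d8c21cf458c87) i1))) (nat_lit 0) (nat_lit 66) List.nil) : List ℤ)
    = ?xq9095 → (List ℤ)) ?hq9095; (case hq9095 => (set_option maxRecDepth 1000000 in conv => lhs; reduce)); intro _; exact ?xq9095 : List ℤ)

/-- the values at the type 95 -/
def cX95 : List ℤ :=
  (by
  refine (?fq9096 : ((pk61l (fun i1 => (pk61z (pk61d (nat_lit 4) 
    (nat_lit 0x1aa8a217416412150000b040b0007000000551106556520252656b045514496214) i1))) (nat_lit 0) (nat_lit 66) List.nil) : List ℤ)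
    = ?xq9096 → (List ℤ)) ?hq9096; (case hq9096 => (set_option maxRecDepth 1000000 in conv => lhs; reduce)); intro _; exact ?xq9096 : List ℤ)

/-- the values at the type 96 -/
def cX96 : List ℤ :=
  (by
  refine (?fq9097 : ((pk61l (fun i1 => (pk61z (pk61d (nat_lit 4) 
    (nat_lit 0x34444033883407387880708334000004000400000000030034030000030440330) i1))) (nat_lit 0) (nat_lit 66) List.nil) : List ℤ)
    = ?xq9097 → (List ℤ)) ?hq9097; (case hq9097 => (set_option maxRecDepth 1000000 in conv => lhs; reduce)); intro _; exact ?xq9097 : List ℤ)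

/-- the values at the type 97 -/
def cX97 : List ℤ :=
  (by
  refine (?fq9098 : ((pk61l (fun i1 => (pk61z (pk61d (nat_lit 3) 
    (nat_lit 0x224909368889c6c40d2200008008000000402210000409090) i1))) (nat_lit 0) (nat_lit 66) List.nil) : List ℤ)
    = ?xq9098 → (List ℤ)) ?hq9098; (case hq9098 => (set_option maxRecDepth 1000000 in conv => lhs; reduce)); intro _; exact ?xq9098 : List ℤ)

/-- the values at the type 98 -/
def cX98 : List ℤ :=
  (by
  refine (?fq9099 : ((pk61l (fun i1 => (pk61z (pk61d (nat_lit 4) 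
    (nat_lit 0x334444330843443747078080000404003000000000000000000000000000300004) i1))) (nat_lit 0) (nat_lit 66) List.nil) : List ℤ)
    = ?xq9099 → (List ℤ)) ?hq9099; (case hq9099 => (set_option maxRecDepth 1000000 in conv => lhs; reduce)); intro _; exact ?xq9099 : List ℤ)

/-- the values at the type 99 -/
def cX99 : List ℤ :=
  (by
  refine (?fq9100 : ((pk61l (fun i1 => (pk61z (pk61d (nat_lit 3) 
    (nat_lit 0x1224948328950c118600041010000000000000000000010001) i1))) (nat_lit 0) (nat_lit 66) List.nil) : List ℤ)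
    = ?xq9100 → (List ℤ)) ?hq9100; (case hq9100 => (set_option maxRecDepth 1000000 in conv => lhs; reduce)); intro _; exact ?xq9100 : List ℤ)

/-- the values at the type 100 -/
def cX100 : List ℤ :=
  (by
  refine (?fq9101 : ((pk61l (fun i1 => (pk61z (nat_lit 0))) (nat_lit 0) (nat_lit 66) List.nil) : List ℤ)
    = ?xq9101 → (List ℤ)) ?hq9101; (case hq9101 => (set_option maxRecDepth 1000000 in conv => lhs; reduce)); intro _; exact ?xq9101 : List ℤ)

/-- the values at the type 101 -/
def cX101 : List ℤ :=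
  (by
  refine (?fq9102 : ((pk61l (fun i1 => (pk61z (nat_lit 0))) (nat_lit 0) (nat_lit 66) List.nil) : List ℤ)
    = ?xq9102 → (List ℤ)) ?hq9102; (case hq9102 => (set_option maxRecDepth 1000000 in conv => lhs; reduce)); intro _; exact ?xq9102 : List ℤ)

/-- the values at the type 102 -/
def cX102 : List ℤ :=
  (by
  refine (?fq9103 : ((pk61l (fun i1 => (pk61z (pk61d (nat_lit 5) 
    (nat_lit 0xe002100000e001d0801d00000100000001c004000001c0744007400031a008010e0220e00000819c68) i1))) (nat_lit 0) (nat_lit 66) List.nil) : List ℤ)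
    = ?xq9103 → (List ℤ)) ?hq9103; (case hq9103 => (set_option maxRecDepth 1000000 in conv => lhs; reduce)); intro _; exact ?xq9103 : List ℤ)

/-- the values at the type 103 -/
def cX103 : List ℤ :=
  (by
  refine (?fq9104 : ((pk61l (fun i1 => (pk61z (pk61d (nat_lit 3) 
    (nat_lit 0x200d802011b1180070001006001047c46024c30602e0003513) i1))) (nat_lit 0) (nat_lit 66) List.nil) : List ℤ)
    = ?xq9104 → (List ℤ)) ?hq9104; (case hq9104 => (set_option maxRecDepth 1000000 in conv => lhs; reduce)); intro _; exact ?xq9104 : List ℤ)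

/-- the values at the type 104 -/
def cX104 : List ℤ :=
  (by
  refine (?fq9105 : ((pk61l (fun i1 => (pk61z (nat_lit 0))) (nat_lit 0) (nat_lit 66) List.nil) : List ℤ)
    = ?xq9105 → (List ℤ)) ?hq9105; (case hq9105 => (set_option maxRecDepth 1000000 in conv => lhs; reduce)); intro _; exact ?xq9105 : List ℤ)

/-- the values at the type 105 -/
def cX105 : List ℤ :=
  (by
  refine (?fq9106 : ((pk61l (fun i1 => (pk61z (pk61d (nat_lit 6) 
    (nat_lit 0x10b2e00cc5d81003102032c75000000075c00000076003c00000040130c43130cb0140d430f0041c010f4c06185cf2103c3) i1))) (nat_lit 0) (nat_lit 66) List.nil) : List ℤ)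
    = ?xq9106 → (List ℤ)) ?hq9106; (case hq9106 => (set_option maxRecDepth 1000000 in conv => lhs; reduce)); intro _; exact ?xq9106 : List ℤ)

/-- the values at the type 106 -/
def cX106 : List ℤ :=
  (by
  refine (?fq9107 : ((pk61l (fun i1 => (pk61z (pk61d (nat_lit 4) 
    (nat_lit 0x166f25cb10573264900004c00004b08000010a215a26092958014018a0bbc83782) i1))) (nat_lit 0) (nat_lit 66) List.nil) : List ℤ)
    = ?xq9107 → (List ℤ)) ?hq9107; (case hq9107 => (set_option maxRecDepth 1000000 in conv => lhs; reduce)); intro _; exact ?xq9107 : List ℤ)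

/-- the values at the type 107 -/
def cX107 : List ℤ :=
  (by
  refine (?fq9108 : ((pk61l (fun i1 => (pk61z (pk61d (nat_lit 6) 
    (nat_lit 0x7efc20800bc040001f80f01080000001f0000000100003c00000100103d00103c000f3cf0200107c04207c000000f81f80f) i1))) (nat_lit 0) (nat_lit 66) List.nil) : List ℤ)
    = ?xq9108 → (List ℤ)) ?hq9108; (case hq9108 => (set_option maxRecDepth 1000000 in conv => lhs; reduce)); intro _; exact ?xq9108 : List ℤ)

/-- the values at the type 108 -/
def cX108 : List ℤ :=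
  (by
  refine (?fq9109 : ((pk61l (fun i1 => (pk61z (pk61d (nat_lit 5) 
    (nat_lit 0x218bbde0c00e0041e801de0000100000001c004000001c0741c07400084200f01e003be00000087c1e8) i1))) (nat_lit 0) (nat_lit 66) List.nil) : List ℤ)
    = ?xq9109 → (List ℤ)) ?hq9109; (case hq9109 => (set_option maxRecDepth 1000000 in conv => lhs; reduce)); intro _; exact ?xq9109 : List ℤ)

/-- the values at the type 109 -/
def cX109 : List ℤ :=
  (by
  refine (?fq9110 : ((pk61l (fun i1 => (pk61z (pk61d (nat_lit 4) 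
    (nat_lit 0xbc0000c00b0000000c0b0) i1))) (nat_lit 0) (nat_lit 66) List.nil) : List ℤ)
    = ?xq9110 → (List ℤ)) ?hq9110; (case hq9110 => (set_option maxRecDepth 1000000 in conv => lhs; reduce)); intro _; exact ?xq9110 : List ℤ)

/-- the values at the type 110 -/
def cX110 : List ℤ :=
  (by
  refine (?fq9111 : ((pk61l (fun i1 => (pk61z (pk61d (nat_lit 3) 
    (nat_lit 0x6a00140c00000a30) i1))) (nat_lit 0) (nat_lit 66) List.nil) : List ℤ)
    = ?xq9111 → (List ℤ)) ?hq9111; (case hq9111 => (set_option maxRecDepth 1000000 in conv => lhs; reduce)); intro _; exact ?xq9111 : List ℤ)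

/-- the values at the type 111 -/
def cX111 : List ℤ :=
  (by
  refine (?fq9112 : ((pk61l (fun i1 => (pk61z (pk61d (nat_lit 3) 
    (nat_lit 0x6a00140c00000a30) i1))) (nat_lit 0) (nat_lit 66) List.nil) : List ℤ)
    = ?xq9112 → (List ℤ)) ?hq9112; (case hq9112 => (set_option maxRecDepth 1000000 in conv => lhs; reduce)); intro _; exact ?xq9112 : List ℤ)

/-- the values at the type 112 -/
def cX112 : List ℤ :=
  (by
  refine (?fq9113 : ((pk61l (fun i1 => (pk61z (pk61d (nat_lit 5) 
    (nat_lit 0xe741088380f003c903ae0000000380000000c00000010e74006838c68010000100b3900041e0718007) i1))) (nat_lit 0) (nat_lit 66) List.nil) : List ℤ)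
    = ?xq9113 → (List ℤ)) ?hq9113; (case hq9113 => (set_option maxRecDepth 1000000 in conv => lhs; reduce)); intro _; exact ?xq9113 : List ℤ)

/-- the values at the type 113 -/
def cX113 : List ℤ :=
  (by
  refine (?fq9114 : ((pk61l (fun i1 => (pk61z (pk61d (nat_lit 4) 
    (nat_lit 0x443113404708174670000040000005000001443023422301000106410034742004) i1))) (nat_lit 0) (nat_lit 66) List.nil) : List ℤ)
    = ?xq9114 → (List ℤ)) ?hq9114; (case hq9114 => (set_option maxRecDepth 1000000 in conv => lhs; reduce)); intro _; exact ?xq9114 : List ℤ)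

/-- the values at the type 114 -/
def cX114 : List ℤ :=
  (by
  refine (?fq9115 : ((pk61l (fun i1 => (pk61z (pk61d (nat_lit 4) 
    (nat_lit 0x833000087840030000f070870003007073800040044803000304740080004708) i1))) (nat_lit 0) (nat_lit 66) List.nil) : List ℤ)
    = ?xq9115 → (List ℤ)) ?hq9115; (case hq9115 => (set_option maxRecDepth 1000000 in conv => lhs; reduce)); intro _; exact ?xq9115 : List ℤ)

/-- the values at the type 115 -/
def cX115 : List ℤ :=
  (by
  refine (?fq9116 : ((pk61l (fun i1 => (pk61z (pk61d (nat_lit 4) 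
    (nat_lit 0x3220000343100200008040340002004042300010011302000201410030001403) i1))) (nat_lit 0) (nat_lit 66) List.nil) : List ℤ)
    = ?xq9116 → (List ℤ)) ?hq9116; (case hq9116 => (set_option maxRecDepth 1000000 in conv => lhs; reduce)); intro _; exact ?xq9116 : List ℤ)

/-- the values at the type 116 -/
def cX116 : List ℤ :=
  (by
  refine (?fq9117 : ((pk61l (fun i1 => (pk61z (nat_lit 0))) (nat_lit 0) (nat_lit 66) List.nil) : List ℤ)
    = ?xq9117 → (List ℤ)) ?hq9117; (case hq9117 => (set_option maxRecDepth 1000000 in conv => lhs; reduce)); intro _; exact ?xq9117 : List ℤ)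

/-- the values at the type 117 -/
def cX117 : List ℤ :=
  (by
  refine (?fq9118 : ((pk61l (fun i1 => (pk61z (nat_lit 0))) (nat_lit 0) (nat_lit 66) List.nil) : List ℤ)
    = ?xq9118 → (List ℤ)) ?hq9118; (case hq9118 => (set_option maxRecDepth 1000000 in conv => lhs; reduce)); intro _; exact ?xq9118 : List ℤ)

/-- the values at the type 118 -/
def cX118 : List ℤ :=
  (by
  refine (?fq9119 : ((pk61l (fun i1 => (pk61z (pk61d (nat_lit 4) 
    (nat_lit 0x483333448338334000300004000000330000000040003000003400000303080043) i1))) (nat_lit 0) (nat_lit 66) List.nil) : List ℤ)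
    = ?xq9119 → (List ℤ)) ?hq9119; (case hq9119 => (set_option maxRecDepth 1000000 in conv => lhs; reduce)); intro _; exact ?xq9119 : List ℤ)

/-- the values at the type 119 -/
def cX119 : List ℤ :=
  (by
  refine (?fq9120 : ((pk61l (fun i1 => (pk61z (pk61d (nat_lit 2) 
    (nat_lit 0x7aa5eba40801000a00004080090022306) i1))) (nat_lit 0) (nat_lit 66) List.nil) : List ℤ)
    = ?xq9120 → (List ℤ)) ?hq9120; (case hq9120 => (set_option maxRecDepth 1000000 in conv => lhs; reduce)); intro _; exact ?xq9120 : List ℤ)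

/-- the values at the type 120 -/
def cX120 : List ℤ :=
  (by
  refine (?fq9121 : ((pk61l (fun i1 => (pk61z (pk61d (nat_lit 4) 
    (nat_lit 0x7788883f788784b7c8070007040380470700433003300040004000004000000343) i1))) (nat_lit 0) (nat_lit 66) List.nil) : List ℤ)
    = ?xq9121 → (List ℤ)) ?hq9121; (case hq9121 => (set_option maxRecDepth 1000000 in conv => lhs; reduce)); intro _; exact ?xq9121 : List ℤ)

/-- the values at the type 121 -/
def cX121 : List ℤ :=
  (by
  refine (?fq9122 : ((pk61l (fun i1 => (pk61z (pk61d (nat_lit 4) 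
    (nat_lit 0x443333284334316453040004010230140400122002200010001000001000000212) i1))) (nat_lit 0) (nat_lit 66) List.nil) : List ℤ)
    = ?xq9122 → (List ℤ)) ?hq9122; (case hq9122 => (set_option maxRecDepth 1000000 in conv => lhs; reduce)); intro _; exact ?xq9122 : List ℤ)

/-- the values at the type 122 -/
def cX122 : List ℤ :=
  (by
  refine (?fq9123 : ((pk61l (fun i1 => (pk61z (pk61d (nat_lit 4) 
    (nat_lit 0x334444333483443340700370000000003400000000040300000000000000003000) i1))) (nat_lit 0) (nat_lit 66) List.nil) : List ℤ)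
    = ?xq9123 → (List ℤ)) ?hq9123; (case hq9123 => (set_option maxRecDepth 1000000 in conv => lhs; reduce)); intro _; exact ?xq9123 : List ℤ)

/-- the values at the type 123 -/
def cX123 : List ℤ :=
  (by
  refine (?fq9124 : ((pk61l (fun i1 => (pk61z (pk61d (nat_lit 3) 
    (nat_lit 0x12249491689488802800000011000000042000000000000400) i1))) (nat_lit 0) (nat_lit 66) List.nil) : List ℤ)
    = ?xq9124 → (List ℤ)) ?hq9124; (case hq9124 => (set_option maxRecDepth 1000000 in conv => lhs; reduce)); intro _; exact ?xq9124 : List ℤ)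

/-- the values at the type 124 -/
def cX124 : List ℤ :=
  (by
  refine (?fq9125 : ((pk61l (fun i1 => (pk61z (pk61d (nat_lit 3) 
    (nat_lit 0x2000160040a20b8006082000014100800108042004c1450052) i1))) (nat_lit 0) (nat_lit 66) List.nil) : List ℤ)
    = ?xq9125 → (List ℤ)) ?hq9125; (case hq9125 => (set_option maxRecDepth 1000000 in conv => lhs; reduce)); intro _; exact ?xq9125 : List ℤ)

/-- the values at the type 125 -/
def cX125 : List ℤ :=
  (by
  refine (?fq9126 : ((pk61l (fun i1 => (pk61z (pk61d (nat_lit 4) 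
    (nat_lit 0x700004800030434048700080404000000430300300003070074000380434300433) i1))) (nat_lit 0) (nat_lit 66) List.nil) : List ℤ)
    = ?xq9126 → (List ℤ)) ?hq9126; (case hq9126 => (set_option maxRecDepth 1000000 in conv => lhs; reduce)); intro _; exact ?xq9126 : List ℤ)

/-- the values at the type 126 -/
def cX126 : List ℤ :=
  (by
  refine (?fq9127 : ((pk61l (fun i1 => (pk61z (nat_lit 0))) (nat_lit 0) (nat_lit 66) List.nil) : List ℤ)
    = ?xq9127 → (List ℤ)) ?hq9127; (case hq9127 => (set_option maxRecDepth 1000000 in conv => lhs; reduce)); intro _; exact ?xq9127 : List ℤ)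

/-- the values at the type 127 -/
def cX127 : List ℤ :=
  (by
  refine (?fq9128 : ((pk61l (fun i1 => (pk61z (nat_lit 0))) (nat_lit 0) (nat_lit 66) List.nil) : List ℤ)
    = ?xq9128 → (List ℤ)) ?hq9128; (case hq9128 => (set_option maxRecDepth 1000000 in conv => lhs; reduce)); intro _; exact ?xq9128 : List ℤ)

/-- the values at the type 128 -/
def cX128 : List ℤ :=
  (by
  refine (?fq9129 : ((pk61l (fun i1 => (pk61z (pk61d (nat_lit 4) 
    (nat_lit 0x843377444334034400000008000000000303000000044000044403300430333440) i1))) (nat_lit 0) (nat_lit 66) List.nil) : List ℤ)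
    = ?xq9129 → (List ℤ)) ?hq9129; (case hq9129 => (set_option maxRecDepth 1000000 in conv => lhs; reduce)); intro _; exact ?xq9129 : List ℤ)

/-- the values at the type 129 -/
def cX129 : List ℤ :=
  (by
  refine (?fq9130 : ((pk61l (fun i1 => (pk61z (pk61d (nat_lit 3) 
    (nat_lit 0x194a424a4422400000c0000002080000048001242401412448) i1))) (nat_lit 0) (nat_lit 66) List.nil) : List ℤ)
    = ?xq9130 → (List ℤ)) ?hq9130; (case hq9130 => (set_option maxRecDepth 1000000 in conv => lhs; reduce)); intro _; exact ?xq9130 : List ℤ)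

/-- the values at the type 130 -/
def cX130 : List ℤ :=
  (by
  refine (?fq9131 : ((pk61l (fun i1 => (pk61z (nat_lit 0))) (nat_lit 0) (nat_lit 66) List.nil) : List ℤ)
    = ?xq9131 → (List ℤ)) ?hq9131; (case hq9131 => (set_option maxRecDepth 1000000 in conv => lhs; reduce)); intro _; exact ?xq9131 : List ℤ)

/-- the values at the type 131 -/
def cX131 : List ℤ :=
  (by
  refine (?fq9132 : ((pk61l (fun i1 => (pk61z (pk61d (nat_lit 4) 
    (nat_lit 0x330440333443843780087800043004040000043004300003000000404300300030) i1))) (nat_lit 0) (nat_lit 66) List.nil) : List ℤ)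
    = ?xq9132 → (List ℤ)) ?hq9132; (case hq9132 => (set_option maxRecDepth 1000000 in conv => lhs; reduce)); intro _; exact ?xq9132 : List ℤ)

/-- the values at the type 132 -/
def cX132 : List ℤ :=
  (by
  refine (?fq9133 : ((pk61l (fun i1 => (pk61z (pk61d (nat_lit 3) 
    (nat_lit 0x120484912995180e300140104000140140008000020a010010) i1))) (nat_lit 0) (nat_lit 66) List.nil) : List ℤ)
    = ?xq9133 → (List ℤ)) ?hq9133; (case hq9133 => (set_option maxRecDepth 1000000 in conv => lhs; reduce)); intro _; exact ?xq9133 : List ℤ)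

/-- the values at the type 133 -/
def cX133 : List ℤ :=
  (by
  refine (?fq9134 : ((pk61l (fun i1 => (pk61z (nat_lit 0))) (nat_lit 0) (nat_lit 66) List.nil) : List ℤ)
    = ?xq9134 → (List ℤ)) ?hq9134; (case hq9134 => (set_option maxRecDepth 1000000 in conv => lhs; reduce)); intro _; exact ?xq9134 : List ℤ)

/-- the values at the type 134 -/
def cX134 : List ℤ :=
  (by
  refine (?fq9135 : ((pk61l (fun i1 => (pk61z (nat_lit 0))) (nat_lit 0) (nat_lit 66) List.nil) : List ℤ)
    = ?xq9135 → (List ℤ)) ?hq9135; (case hq9135 => (set_option maxRecDepth 1000000 in conv => lhs; reduce)); intro _; exact ?xq9135 : List ℤ)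

/-- the values at the type 135 -/
def cX135 : List ℤ :=
  (by
  refine (?fq9136 : ((pk61l (fun i1 => (pk61z (pk61d (nat_lit 3) 
    (nat_lit 0x1000000239201c000300302081b8246000d86200e00006dc) i1))) (nat_lit 0) (nat_lit 66) List.nil) : List ℤ)
    = ?xq9136 → (List ℤ)) ?hq9136; (case hq9136 => (set_option maxRecDepth 1000000 in conv => lhs; reduce)); intro _; exact ?xq9136 : List ℤ)

/-- the values at the type 136 -/
def cX136 : List ℤ :=
  (by
  refine (?fq9137 : ((pk61l (fun i1 => (pk61z (pk61d (nat_lit 3) 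
    (nat_lit 0x4000000a248100002002008212209400090408088000491) i1))) (nat_lit 0) (nat_lit 66) List.nil) : List ℤ)
    = ?xq9137 → (List ℤ)) ?hq9137; (case hq9137 => (set_option maxRecDepth 1000000 in conv => lhs; reduce)); intro _; exact ?xq9137 : List ℤ)

/-- the values at the type 137 -/
def cX137 : List ℤ :=
  (by
  refine (?fq9138 : ((pk61l (fun i1 => (pk61z (pk61d (nat_lit 2) 
    (nat_lit 0x31c31080002a0000000004021) i1))) (nat_lit 0) (nat_lit 66) List.nil) : List ℤ)
    = ?xq9138 → (List ℤ)) ?hq9138; (case hq9138 => (set_option maxRecDepth 1000000 in conv => lhs; reduce)); intro _; exact ?xq9138 : List ℤ)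

/-- the values at the type 138 -/
def cX138 : List ℤ :=
  (by
  refine (?fq9139 : ((pk61l (fun i1 => (pk61z (pk61d (nat_lit 4) 
    (nat_lit 0x8048008040030000000033300000000000000000040000304) i1))) (nat_lit 0) (nat_lit 66) List.nil) : List ℤ)
    = ?xq9139 → (List ℤ)) ?hq9139; (case hq9139 => (set_option maxRecDepth 1000000 in conv => lhs; reduce)); intro _; exact ?xq9139 : List ℤ)

/-- the values at the type 139 -/
def cX139 : List ℤ :=
  (by
  refine (?fq9140 : ((pk61l (fun i1 => (pk61z (pk61d (nat_lit 4) 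
    (nat_lit 0x30030003000334340008000400000000003000040044000344344403303404433) i1))) (nat_lit 0) (nat_lit 66) List.nil) : List ℤ)
    = ?xq9140 → (List ℤ)) ?hq9140; (case hq9140 => (set_option maxRecDepth 1000000 in conv => lhs; reduce)); intro _; exact ?xq9140 : List ℤ)

/-- the values at the type 140 -/
def cX140 : List ℤ :=
  (by
  refine (?fq9141 : ((pk61l (fun i1 => (pk61z (pk61d (nat_lit 2) 
    (nat_lit 0x208080a640c04000020041409654a245a) i1))) (nat_lit 0) (nat_lit 66) List.nil) : List ℤ)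
    = ?xq9141 → (List ℤ)) ?hq9141; (case hq9141 => (set_option maxRecDepth 1000000 in conv => lhs; reduce)); intro _; exact ?xq9141 : List ℤ)

/-- the values at the type 141 -/
def cX141 : List ℤ :=
  (by
  refine (?fq9142 : ((pk61l (fun i1 => (pk61z (pk61d (nat_lit 4) 
    (nat_lit 0x33c7443733c08070c0000080000070000004c3c033c3b40b0804004000c3373873) i1))) (nat_lit 0) (nat_lit 66) List.nil) : List ℤ)
    = ?xq9142 → (List ℤ)) ?hq9142; (case hq9142 => (set_option maxRecDepth 1000000 in conv => lhs; reduce)); intro _; exact ?xq9142 : List ℤ)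

/-- the values at the type 142 -/
def cX142 : List ℤ :=
  (by
  refine (?fq9143 : ((pk61l (fun i1 => (pk61z (pk61d (nat_lit 3) 
    (nat_lit 0x12b09512a1882800060002000006aa12ab1183040200a944e2) i1))) (nat_lit 0) (nat_lit 66) List.nil) : List ℤ)
    = ?xq9143 → (List ℤ)) ?hq9143; (case hq9143 => (set_option maxRecDepth 1000000 in conv => lhs; reduce)); intro _; exact ?xq9143 : List ℤ)

/-- the values at the type 143 -/
def cX143 : List ℤ :=
  (by
  refine (?fq9144 : ((pk61l (fun i1 => (pk61z (pk61d (nat_lit 4) 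
    (nat_lit 0x443333884334370403000007000030440400033000000040000000000000000040) i1))) (nat_lit 0) (nat_lit 66) List.nil) : List ℤ)
    = ?xq9144 → (List ℤ)) ?hq9144; (case hq9144 => (set_option maxRecDepth 1000000 in conv => lhs; reduce)); intro _; exact ?xq9144 : List ℤ)

/-- the values at the type 144 -/
def cX144 : List ℤ :=
  (by
  refine (?fq9145 : ((pk61l (fun i1 => (pk61z (pk61d (nat_lit 3) 
    (nat_lit 0x94926ca454042000100010241002400000200000000000008) i1))) (nat_lit 0) (nat_lit 66) List.nil) : List ℤ)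
    = ?xq9145 → (List ℤ)) ?hq9145; (case hq9145 => (set_option maxRecDepth 1000000 in conv => lhs; reduce)); intro _; exact ?xq9145 : List ℤ)

/-- the values at the type 145 -/
def cX145 : List ℤ :=
  (by
  refine (?fq9146 : ((pk61l (fun i1 => (pk61z (pk61d (nat_lit 4) 
    (nat_lit 0x304844330447080b40000000030037004040433000004003403034044400030403) i1))) (nat_lit 0) (nat_lit 66) List.nil) : List ℤ)
    = ?xq9146 → (List ℤ)) ?hq9146; (case hq9146 => (set_option maxRecDepth 1000000 in conv => lhs; reduce)); intro _; exact ?xq9146 : List ℤ)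

/-- the values at the type 146 -/
def cX146 : List ℤ :=
  (by
  refine (?fq9147 : ((pk61l (fun i1 => (pk61z (pk61d (nat_lit 3) 
    (nat_lit 0x102c948130318800000201400820a400008088411049002042) i1))) (nat_lit 0) (nat_lit 66) List.nil) : List ℤ)
    = ?xq9147 → (List ℤ)) ?hq9147; (case hq9147 => (set_option maxRecDepth 1000000 in conv => lhs; reduce)); intro _; exact ?xq9147 : List ℤ)

/-- the values at the type 147 -/
def cX147 : List ℤ :=
  (by
  refine (?fq9148 : ((pk61l (fun i1 => (pk61z (nat_lit 0))) (nat_lit 0) (nat_lit 66) List.nil) : List ℤ)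
    = ?xq9148 → (List ℤ)) ?hq9148; (case hq9148 => (set_option maxRecDepth 1000000 in conv => lhs; reduce)); intro _; exact ?xq9148 : List ℤ)

/-- the values at the type 148 -/
def cX148 : List ℤ :=
  (by
  refine (?fq9149 : ((pk61l (fun i1 => (pk61z (pk61d (nat_lit 4) 
    (nat_lit 0x334844703840843040000880000000000003043343430343400300303000807003) i1))) (nat_lit 0) (nat_lit 66) List.nil) : List ℤ)
    = ?xq9149 → (List ℤ)) ?hq9149; (case hq9149 => (set_option maxRecDepth 1000000 in conv => lhs; reduce)); intro _; exact ?xq9149 : List ℤ)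

/-- the values at the type 149 -/
def cX149 : List ℤ :=
  (by
  refine (?fq9150 : ((pk61l (fun i1 => (pk61z (pk61d (nat_lit 3) 
    (nat_lit 0x122c981321940800360000000008148a282288080410018802) i1))) (nat_lit 0) (nat_lit 66) List.nil) : List ℤ)
    = ?xq9150 → (List ℤ)) ?hq9150; (case hq9150 => (set_option maxRecDepth 1000000 in conv => lhs; reduce)); intro _; exact ?xq9150 : List ℤ)

/-- the values at the type 150 -/
def cX150 : List ℤ :=
  (by
  refine (?fq9151 : ((pk61l (fun i1 => (pk61z (nat_lit 0))) (nat_lit 0) (nat_lit 66) List.nil) : List ℤ)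
    = ?xq9151 → (List ℤ)) ?hq9151; (case hq9151 => (set_option maxRecDepth 1000000 in conv => lhs; reduce)); intro _; exact ?xq9151 : List ℤ)

/-- the values at the type 151 -/
def cX151 : List ℤ :=
  (by
  refine (?fq9152 : ((pk61l (fun i1 => (pk61z (nat_lit 0))) (nat_lit 0) (nat_lit 66) List.nil) : List ℤ)
    = ?xq9152 → (List ℤ)) ?hq9152; (case hq9152 => (set_option maxRecDepth 1000000 in conv => lhs; reduce)); intro _; exact ?xq9152 : List ℤ)

/-- the values at the type 152 -/
def cX152 : List ℤ :=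
  (by
  refine (?fq9153 : ((pk61l (fun i1 => (pk61z (nat_lit 0))) (nat_lit 0) (nat_lit 66) List.nil) : List ℤ)
    = ?xq9153 → (List ℤ)) ?hq9153; (case hq9153 => (set_option maxRecDepth 1000000 in conv => lhs; reduce)); intro _; exact ?xq9153 : List ℤ)

/-- the values at the type 153 -/
def cX153 : List ℤ :=
  (by
  refine (?fq9154 : ((pk61l (fun i1 => (pk61z (pk61d (nat_lit 5) 
    (nat_lit 0xe04210839de841e003bd000000000000000e038000000e0400e040100001000010001c000200041d07) i1))) (nat_lit 0) (nat_lit 66) List.nil) : List ℤ)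
    = ?xq9154 → (List ℤ)) ?hq9154; (case hq9154 => (set_option maxRecDepth 1000000 in conv => lhs; reduce)); intro _; exact ?xq9154 : List ℤ)

/-- the values at the type 154 -/
def cX154 : List ℤ :=
  (by
  refine (?fq9155 : ((pk61l (fun i1 => (pk61z (pk61d (nat_lit 4) 
    (nat_lit 0x403333448334704830000000000040400000403040303000300030040003003434) i1))) (nat_lit 0) (nat_lit 66) List.nil) : List ℤ)
    = ?xq9155 → (List ℤ)) ?hq9155; (case hq9155 => (set_option maxRecDepth 1000000 in conv => lhs; reduce)); intro _; exact ?xq9155 : List ℤ)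

/-- the values at the type 155 -/
def cX155 : List ℤ :=
  (by
  refine (?fq9156 : ((pk61l (fun i1 => (pk61z (pk61d (nat_lit 3) 
    (nat_lit 0x142494a120950020004000024000000801002044000104000a) i1))) (nat_lit 0) (nat_lit 66) List.nil) : List ℤ)
    = ?xq9156 → (List ℤ)) ?hq9156; (case hq9156 => (set_option maxRecDepth 1000000 in conv => lhs; reduce)); intro _; exact ?xq9156 : List ℤ)

/-- the values at the type 156 -/
def cX156 : List ℤ :=
  (by
  refine (?fq9157 : ((pk61l (fun i1 => (pk61z (pk61d (nat_lit 3) 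
    (nat_lit 0x1f9246fc8247c0800100000900000020018038700004100023) i1))) (nat_lit 0) (nat_lit 66) List.nil) : List ℤ)
    = ?xq9157 → (List ℤ)) ?hq9157; (case hq9157 => (set_option maxRecDepth 1000000 in conv => lhs; reduce)); intro _; exact ?xq9157 : List ℤ)

/-- the values at the type 157 -/
def cX157 : List ℤ :=
  (by
  refine (?fq9158 : ((pk61l (fun i1 => (pk61z (pk61d (nat_lit 3) 
    (nat_lit 0x24efb92713b8000008000200000048000030c30001009230e4) i1))) (nat_lit 0) (nat_lit 66) List.nil) : List ℤ)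
    = ?xq9158 → (List ℤ)) ?hq9158; (case hq9158 => (set_option maxRecDepth 1000000 in conv => lhs; reduce)); intro _; exact ?xq9158 : List ℤ)

/-- the values at the type 158 -/
def cX158 : List ℤ :=
  (by
  refine (?fq9159 : ((pk61l (fun i1 => (pk61z (pk61d (nat_lit 3) 
    (nat_lit 0x98a224c06220000020000800000120000208200004024a089) i1))) (nat_lit 0) (nat_lit 66) List.nil) : List ℤ)
    = ?xq9159 → (List ℤ)) ?hq9159; (case hq9159 => (set_option maxRecDepth 1000000 in conv => lhs; reduce)); intro _; exact ?xq9159 : List ℤ)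

/-- the values at the type 159 -/
def cX159 : List ℤ :=
  (by
  refine (?fq9160 : ((pk61l (fun i1 => (pk61z (pk61d (nat_lit 5) 
    (nat_lit 0x8419c83200845a0e78008000000380000000000000010841806320c63010000100021c001908718004) i1))) (nat_lit 0) (nat_lit 66) List.nil) : List ℤ)
    = ?xq9160 → (List ℤ)) ?hq9160; (case hq9160 => (set_option maxRecDepth 1000000 in conv => lhs; reduce)); intro _; exact ?xq9160 : List ℤ)

/-- the values at the type 160 -/
def cX160 : List ℤ :=
  (by
  refine (?fq9161 : ((pk61l (fun i1 => (pk61z (pk61d (nat_lit 3) 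
    (nat_lit 0x950a209ce4e0800080000000004941229204004030044c401) i1))) (nat_lit 0) (nat_lit 66) List.nil) : List ℤ)
    = ?xq9161 → (List ℤ)) ?hq9161; (case hq9161 => (set_option maxRecDepth 1000000 in conv => lhs; reduce)); intro _; exact ?xq9161 : List ℤ)

/-- the columns -/
def colsX : List (List ℤ) :=
  [cX0, cX1, cX2, cX3, cX4, cX5, cX6, cX7, cX8, cX9, cX10, cX11, cX12, cX13, cX14, cX15, cX16, cX17, cX18,
  cX19, cX20, cX21, cX22, cX23, cX24, cX25, cX26, cX27, cX28, cX29, cX30, cX31, cX32, cX33, cX34, cX35, cX36,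
  cX37, cX38, cX39, cX40, cX41, cX42, cX43, cX44, cX45, cX46, cX47, cX48, cX49, cX50, cX51, cX52, cX53, cX54,
  cX55, cX56, cX57, cX58, cX59, cX60, cX61, cX62, cX63, cX64, cX65, cX66, cX67, cX68, cX69, cX70, cX71, cX72,
  cX73, cX74, cX75, cX76, cX77, cX78, cX79, cX80, cX81, cX82, cX83, cX84, cX85, cX86, cX87, cX88, cX89, cX90,
  cX91, cX92, cX93, cX94, cX95, cX96, cX97, cX98, cX99, cX100, cX101, cX102, cX103, cX104, cX105, cX106,
  cX107, cX108, cX109, cX110, cX111, cX112, cX113, cX114, cX115, cX116, cX117, cX118, cX119, cX120, cX121,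
  cX122, cX123, cX124, cX125, cX126, cX127, cX128, cX129, cX130, cX131, cX132, cX133, cX134, cX135, cX136,
  cX137, cX138, cX139, cX140, cX141, cX142, cX143, cX144, cX145, cX146, cX147, cX148, cX149, cX150, cX151,
  cX152, cX153, cX154, cX155, cX156, cX157, cX158, cX159, cX160]

/-- the norms -/
def nmX : List ℕ :=
  [2, 2, 2, 2, 2, 2, 2, 2, 2, 2, 2, 2, 2, 2, 2, 2, 2, 2, 2, 2, 2, 2, 2, 2, 2, 2, 2, 2, 2, 2, 2, 2, 2, 2, 2,
  2, 2, 2, 2, 2, 2, 2, 4, 4, 4, 4, 4, 4, 4]

/-- the coefficients of the faithful part of the regular character -/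
def regX : List ℤ :=
  (by
  refine (?fq9162 : ((pk61l (fun i1 => (pk61z (pk61d (nat_lit 40) 
    (nat_lit 0xaed0a726b2a701c9c00089b3520a007fdd5e770037f0d9541035ca0c0be80fe46c49560a2bca6c6009d2edc000020e8075ea0185274c06014e039380002757ce4c00173f858a00173f858a000305d30000000957d2467ff41a3a043028594a03d78cfcaa00a0e220800095aca71600895929e40019c4839ebcccdd7bb68003e90bba79069b1aca77a8d4fb006484b00000620c36f28c5ee3ecd0005638f37d0053209de3e64a9fe636f847ec8522f045ed0fa9144233e345fa3f256800003f2568000030398f36d027246b4900255f480000255f480000247baf20901db941783c13752a33800fe46c495609d5f3930009c91ad24006fe1b2a8206c160558205b54fa55004fea5b0a604674c11d00226cd482801ff7579dc011e217f4000d8c9b4a800b92ef2be007d41575000184cd23e0005380e4e000244e4d40000cd399200000957d2000001f890) i1))) (nat_lit 0) (nat_lit 66) List.nil) : List ℤ)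
    = ?xq9162 → (List ℤ)) ?hq9162; (case hq9162 => (set_option maxRecDepth 1000000 in set_option simprocs false in conv => lhs; reduce; dsimp only)); intro _; exact ?xq9162 : List ℤ)

theorem okLenX : DX.okLen := ⟨by decide +kernel, by decide +kernel, by decide +kernel⟩

theorem gramX : chkG DX (colsX.map (List.take nmX.length)) (nmX.map fun n => (n, 0)) 4 (3 ^ 56) = true :=
  Cfsg.Agent.TAB.Pk.chkG_of (by decide +kernel)

private noncomputable def _root_.Cfsg.Agent.LsF.fd60e6c_0 : {f // @Cfsg.Agent.TAB.Eng.Dat.ord = f} := ⟨_, by first | (delta Cfsg.Agent.TAB.Eng.Dat.ord; rewrite [Cfsg.Agent.LsF.getD_eq]; exact rfl) | exact rfl⟩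
private noncomputable def _root_.Cfsg.Agent.LsF.fd60e6c_1 : {f // @Cfsg.Agent.TAB.Eng.Dat.cnt = f} := ⟨_, by first | (delta Cfsg.Agent.TAB.Eng.Dat.cnt; rewrite [Cfsg.Agent.LsF.getD_eq]; exact rfl) | exact rfl⟩
private noncomputable def _root_.Cfsg.Agent.LsF.fd60e6c_2 : {f // @Cfsg.Agent.TAB.Eng.allL = f} := ⟨_, by first | (delta Cfsg.Agent.TAB.Eng.allL; rewrite [Cfsg.Agent.LsF.cond_eq]; exact rfl) | exact rfl⟩
private noncomputable def _root_.Cfsg.Agent.LsF.fd60e6c_3 : {f // @Cfsg.Agent.TAB.Eng.rwL = f} := ⟨_, by first | (delta Cfsg.Agent.TAB.Eng.rwL; rewrite [Cfsg.Agent.LsF.map_eq]; exact rfl) | exact rfl⟩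
private noncomputable def _root_.Cfsg.Agent.LsF.fd60e6c_4 : {f // @Cfsg.Agent.TAB.Eng.ipL = f} := ⟨_, by first | (delta Cfsg.Agent.TAB.Eng.ipL; rewrite [Cfsg.Agent.LsF.iadd_eq, Cfsg.Agent.LsF.imul_eq]; exact rfl) | exact rfl⟩
private noncomputable def _root_.Cfsg.Agent.LsF.fd60e6c_5 : {f // @Cfsg.Agent.TAB.Eng.ip = f} := ⟨_, by first | (delta Cfsg.Agent.TAB.Eng.ip; rewrite [Cfsg.Agent.LsF.fd60e6c_4.2]; exact rfl) | exact rfl⟩
private noncomputable def _root_.Cfsg.Agent.LsF.fd60e6c_6 : {f // @Cfsg.Agent.TAB.Eng.dotL = f} := ⟨_, by first | (delta Cfsg.Agent.TAB.Eng.dotL; rewrite [Cfsg.Agent.LsF.iadd_eq, Cfsg.Agent.LsF.imul_eq]; exact rfl) | exact rfl⟩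
private noncomputable def _root_.Cfsg.Agent.LsF.fd60e6c_7 : {f // @Cfsg.Agent.TAB.Cov.okF = f} := ⟨_, by first | (delta Cfsg.Agent.TAB.Cov.okF; rewrite [Cfsg.Agent.LsF.fd60e6c_0.2, Cfsg.Agent.LsF.fd60e6c_1.2, Cfsg.Agent.LsF.fd60e6c_2.2, Cfsg.Agent.LsF.fd60e6c_3.2, Cfsg.Agent.LsF.fd60e6c_5.2, Cfsg.Agent.LsF.fd60e6c_6.2, Cfsg.Agent.LsF.nmod_pat, Cfsg.Agent.LsF.nbeq_pat, Cfsg.Agent.LsF.imul_pat, Cfsg.Agent.LsF.isub_pat, Cfsg.Agent.LsF.imod_pat, Cfsg.Agent.LsF.icast_pat, Cfsg.Agent.LsF.instIBEq_pat, Cfsg.Agent.LsF.and_eq, Cfsg.Agent.LsF.or_eq, Cfsg.Agent.LsF.instDecEq_eq, Cfsg.Agent.LsF.decLt_eq, Cfsg.Agent.LsF.any_eq, Cfsg.Agent.LsF.range_eq, Cfsg.Agent.LsF.getD_eq, Cfsg.Agent.LsF.bne_eq, Cfsg.Agent.LsF.instIDecEq_eq, Cfsg.Agent.LsF.length_eq, Cfsg.Agent.LsF.ite_eq, Cfsg.Agent.LsF.decide_eq]; exact rfl) | exact rfl⟩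
theorem finX : okF DX colsX regX proj 3765617127571985163878400 1255205709190661721292800 = true := by
  ((try (rewrite [Cfsg.Agent.LsF.fd60e6c_7.2])); decide +kernel)

end Cfsg.Agent.TAB.F24
end

-- part: TAB/F24/CertX
section
set_option linter.all false
open scoped Cfsg.Agent.FastGrp

/-- decoders of the packed data (elaboration time only) -/
private noncomputable def pk61d_v1 (b S i : Nat) : Nat := Nat.mod (Nat.shiftRight S (Nat.mul b i)) (Nat.shiftLeft (nat_lit 1) b)
private noncomputable def pk61c_v1 {α : Type} (t : Nat) (a : α) (f : Nat → α) : α := Nat.rec a (fun k _ => f k) t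
private noncomputable def pk61f_v1 {α : Type} (t : Nat) (f : Nat → α) : α := Nat.rec (f Nat.zero) (fun k _ => f (Nat.succ k)) t
private noncomputable def pk61z_v1 (t : Nat) : Int := pk61f_v1 t fun t =>
  pk61c_v1 (Nat.mod t (nat_lit 2)) (Int.ofNat (Nat.div t (nat_lit 2))) fun _ => Int.negSucc (Nat.div t (nat_lit 2))
private noncomputable def pk61l_v1 {α : Type} (f : Nat → α) (s e : Nat) (tl : List α) : List α :=
  pk61f_v1 e fun e => Nat.rec tl (fun k ih => List.cons (pk61f_v1 (Nat.sub e (Nat.succ k)) f) ih) (Nat.sub e s)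
private noncomputable def pk61o {α : Type} (O : (n : Nat) → OfNat α n → α) (I : (n : Nat) → OfNat α n) (t : Nat) : α :=
  pk61c_v1 t (O (nat_lit 0) (I (nat_lit 0))) fun k => O (Nat.succ k) (I (Nat.succ k))
private noncomputable def pk61y (O : (n : Nat) → OfNat Int n → Int) (I : (n : Nat) → OfNat Int n) (G : Int → Int) (t : Nat) : Int := pk61f_v1 t fun t =>
  pk61c_v1 (Nat.mod t (nat_lit 2)) (pk61o O I (Nat.div t (nat_lit 2))) fun _ => G (pk61o O I (Nat.succ (Nat.div t (nat_lit 2))))

private noncomputable def lq262fe45fcd {T : Sort _} (f :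
    type_of% (@_root_.List.cons.{0}) →
    type_of% (@_root_.Prod.mk.{0, 0}) →
    type_of% (@_root_.List.cons.{0} (Int)) →
    type_of% (@_root_.Int.ofNat) →
    type_of% (@_root_.List.nil.{0}) →
    type_of% (@_root_.Cfsg.Agent.TAB.Eng.Op.lin) →
    type_of% (@_root_.Cfsg.Agent.TAB.Eng.Op.gen) →
    type_of% (@_root_.Int.negSucc) →
    type_of% (@_root_.Cfsg.Agent.TAB.Eng.Cert.mk) →
    type_of% (@_root_.Cfsg.Agent.TAB.Eng.Op.one) →
    type_of% (@_root_.List.cons.{0} (Cfsg.Agent.TAB.Eng.Op)) →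
    type_of% (@_root_.Cfsg.Agent.TAB.Glue.Lv.mk) →
    type_of% (@_root_.Bool.true) →
    type_of% (@_root_.List.cons.{0} (Cfsg.Agent.TAB.Glue.Lv)) →
    type_of% (@_root_.Cfsg.Agent.TAB.Eng.Op.mul) →
    type_of% (@_root_.List.cons.{0} (Nat)) → T) : T :=
  f (@_root_.List.cons.{0}) (@_root_.Prod.mk.{0, 0}) (@_root_.List.cons.{0} (Int)) (@_root_.Int.ofNat) (@_root_.List.nil.{0}) (@_root_.Cfsg.Agent.TAB.Eng.Op.lin) (@_root_.Cfsg.Agent.TAB.Eng.Op.gen) (@_root_.Int.negSucc) (@_root_.Cfsg.Agent.TAB.Eng.Cert.mk) (@_root_.Cfsg.Agent.TAB.Eng.Op.one) (@_root_.List.cons.{0} (Cfsg.Agent.TAB.Eng.Op)) (@_root_.Cfsg.Agent.TAB.Glue.Lv.mk) (@_root_.Bool.true) (@_root_.List.cons.{0} (Cfsg.Agent.TAB.Glue.Lv)) (@_root_.Cfsg.Agent.TAB.Eng.Op.mul) (@_root_.List.cons.{0} (Nat))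

/-!
# Faithful characters of `3.Fi₂₄'` : certificates (helper16, TAB)
-/

set_option autoImplicit false
set_option maxRecDepth 100000

namespace Cfsg.Agent.TAB.F24

open Cfsg.Agent.TAB.Eng Cfsg.Agent.TAB.Glue Cfsg.Agent.TAB.Cov

/-- the trivial character -/
def oneX : List ℤ := List.replicate 161 1

/-- an inflated character -/
noncomputable def iX0 : List ℤ :=
  (by
  refine (?fq9001 : ((pk61l_v1 (fun i1 => (pk61z_v1 (pk61d_v1 (nat_lit 15) 
    (nat_lit 0x43be057c07b80550099008200f801b002a003a006800c0012002200380050009001000180028004000600080008000) (pk61d_v1 (nat_lit 5) 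
    (nat_lit 0x10800108c600082118000008400000108840004210844200021108241082100005298c50000610821318a50008410800121010a842184210a9292102131842294e8438e73a0210854a18d292ad6f798cc6462b295ad0001084a410842ea52d5a9ef79cf18) i1)))) (nat_lit 0) (nat_lit 161) List.nil) : List ℤ)
    = ?xq9001 → (List ℤ)) ?hq9001; (case hq9001 => (set_option maxRecDepth 1000000 in set_option simprocs false in conv => lhs; reduce; dsimp only)); intro _; exact ?xq9001 : List ℤ)

theorem iX0_eq : iX0 = proj.map (rw colsT 1) := by decide +kernel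

/-- an inflated character -/
noncomputable def iX1 : List ℤ :=
  (by
  refine (?fq9002 : ((pk61l_v1 (fun i1 => (pk61z_v1 (pk61d_v1 (nat_lit 19) 
    (nat_lit 0xf39c8054880932006ca005c80053800710006e000c800188002a000520009400100001d0002e0003800068000b00012000200003800060000a00010000180002800040000600008000080000) (pk61d_v1 (nat_lit 5) 
    (nat_lit 0x108421084221040020840008400000000482100213184200000084060008418c610908a210e2000000850821021210422210c644216a10632021084a5000e70010f7c244220844a463085291d298c4e7082116528427210b5def5a908fe73dad67bddefff) i1)))) (nat_lit 0) (nat_lit 161) List.nil) : List ℤ)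
    = ?xq9002 → (List ℤ)) ?hq9002; (case hq9002 => (set_option maxRecDepth 1000000 in set_option simprocs false in conv => lhs; reduce; dsimp only)); intro _; exact ?xq9002 : List ℤ)

theorem iX1_eq : iX1 = proj.map (rw colsT 3) := by decide +kernel

/-- an inflated character -/
noncomputable def iX2 : List ℤ :=
  (by
  refine (?fq9003 : ((pk61l_v1 (fun i1 => (pk61z_v1 (pk61d_v1 (nat_lit 17) 
    (nat_lit 0xe08502428099c042c00d2004280158008c004500180007800360017000b000540020000f0007400380018000a000480020000e00060002c00140008000380018000a000400018000800020000) (pk61d_v1 (nat_lit 6) 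
    (nat_lit 0x208000000410308000000104104208000104000000000100010404100010400004404108208208d3441080410c200008200038e0000001042081534cb2cb2cb2c104000b10410418610430c18629965028618614524924900045109d75c70c3114575d63cf5142071d861b6d554925286181f7da8a279e8e3) i1)))) (nat_lit 0) (nat_lit 161) List.nil) : List ℤ)
    = ?xq9003 → (List ℤ)) ?hq9003; (case hq9003 => (set_option maxRecDepth 1000000 in set_option simprocs false in conv => lhs; reduce; dsimp only)); intro _; exact ?xq9003 : List ℤ)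

theorem iX2_eq : iX2 = proj.map (rw colsT 2) := by decide +kernel

/-- a seed -/
def sX0 : List ℤ :=
  (by
  refine (?fq9004 : ((pk61l_v1 (fun i1 => (pk61z_v1 (pk61d_v1 (nat_lit 80) 
    (nat_lit 0xb13339a8800672400000000000000018eac00000000000000000040df8800000000000000000b64000000000000000000798000000000000000000d800000000000000000000) (pk61d_v1 (nat_lit 3) 
    (nat_lit 0x40000000000000000000000000000000000000000002000000000000000000003000000000000100146) i1)))) (nat_lit 0) (nat_lit 161) List.nil) : List ℤ)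
    = ?xq9004 → (List ℤ)) ?hq9004; (case hq9004 => (set_option maxRecDepth 1000000 in set_option simprocs false in conv => lhs; reduce; dsimp only)); intro _; exact ?xq9004 : List ℤ)

/-- a seed -/
noncomputable def sX1 : List ℤ :=
  (by
  refine (?fq9005 : ((pk61l_v1 (fun i1 => (pk61z_v1 (pk61d_v1 (nat_lit 71) 
    (nat_lit 0x739d91368aa1280c0000000007f038c6cc00000000008e865a240000000000164c7ba00000000000000868d40000000000001004a0000000000000066840000000000000020e1400000000000002d900000000000000037b0000000000000000b640000000000000007ce000000000000000b64000000000000000b880000000000000005a00000000000000009000000000000000006c00000000000000009000000000000000009000000000000000003000000000000000000) (pk61d_v1 (nat_lit 5) 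
    (nat_lit 0x20000000040000000000000000000400000000000000000000000000000400010000000000804000000000000000000000000000c0600d00001400000000005380090000000180001c00000000000681e000160048000401304414) i1)))) (nat_lit 0) (nat_lit 161) List.nil) : List ℤ)
    = ?xq9005 → (List ℤ)) ?hq9005; (case hq9005 => (set_option maxRecDepth 1000000 in set_option simprocs false in conv => lhs; reduce; dsimp only)); intro _; exact ?xq9005 : List ℤ)

/-- a seed -/
noncomputable def sX2 : List ℤ :=
  (by
  refine (?fq9006 : ((pk61l_v1 (fun i1 => (pk61z_v1 (pk61d_v1 (nat_lit 80) 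
    (nat_lit 0x97e2c3b5000586800000000000000003cd18f80000000000000000001b900000000000000000009000000000000000000000) (pk61d_v1 (nat_lit 3) 
    (nat_lit 0x40000000000000000000000000000000000000000000000000000000400000000000000000000000000600004) i1)))) (nat_lit 0) (nat_lit 161) List.nil) : List ℤ)
    = ?xq9006 → (List ℤ)) ?hq9006; (case hq9006 => (set_option maxRecDepth 1000000 in set_option simprocs false in conv => lhs; reduce; dsimp only)); intro _; exact ?xq9006 : List ℤ)

/-- a seed -/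
noncomputable def sX3 : List ℤ :=
  (by
  refine (?fq9007 : ((pk61l_v1 (fun i1 => (pk61z_v1 (pk61d_v1 (nat_lit 79) 
    (nat_lit 0x60a793d045d4f88000000000000003350d11400000000000000000000780000000000000000003c00000000000000000000) (pk61d_v1 (nat_lit 3) 
    (nat_lit 0x2000000000000000000000000000000000000000000000000000000000000800000000000000000000000000000000000000c0000004) i1)))) (nat_lit 0) (nat_lit 161) List.nil) : List ℤ)
    = ?xq9007 → (List ℤ)) ?hq9007; (case hq9007 => (set_option maxRecDepth 1000000 in set_option simprocs false in conv => lhs; reduce; dsimp only)); intro _; exact ?xq9007 : List ℤ)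

/-- a seed -/
noncomputable def sX4 : List ℤ :=
  (by
  refine (?fq9008 : ((pk61l_v1 (fun i1 => (pk61z_v1 (pk61d_v1 (nat_lit 55) 
    (nat_lit 0x545eadf8875800000007f413000000000223290c000000009f5718000000001dba3400000000375f000000000004bf000000000006a5000000000004f1a000000000020e8000000000030f000000000003cc000000000005b200000000000610800000000006c000000000000a20000000000012000000000000229800000000003330000000000036000000000000384000000000006c00000000000090000000000000fc000000000001e000000000000120000000000001b00000000000024000000000000240000000000003000000000000030000000000000300000000000000) (pk61d_v1 (nat_lit 6) 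
    (nat_lit 0x4000000004000008000000000004000000000000000100000000300000000000000018000010000100000000c0050000040070000000110000001c000a0000000000050080000004d03c01c900000000a00000e0006400005c054051200d0002c000058068000040001d78071801f01b020) i1)))) (nat_lit 0) (nat_lit 161) List.nil) : List ℤ)
    = ?xq9008 → (List ℤ)) ?hq9008; (case hq9008 => (set_option maxRecDepth 1000000 in set_option simprocs false in conv => lhs; reduce; dsimp only)); intro _; exact ?xq9008 : List ℤ)

/-- a seed -/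
noncomputable def sX5 : List ℤ :=
  (by
  refine (?fq9009 : ((pk61l_v1 (fun i1 => (pk61z_v1 (pk61d_v1 (nat_lit 79) 
    (nat_lit 0x11b85290d99a3ea0000000000000009686a99000000000000000000ec400000000000000000cd08000000000000000000d80000000000000000004800000000000000000000) (pk61d_v1 (nat_lit 3) 
    (nat_lit 0x8000000000000000000000000000000000000000000000080000000000000000000000000000600000000000000000000000000800000140000006) i1)))) (nat_lit 0) (nat_lit 161) List.nil) : List ℤ)
    = ?xq9009 → (List ℤ)) ?hq9009; (case hq9009 => (set_option maxRecDepth 1000000 in set_option simprocs false in conv => lhs; reduce; dsimp only)); intro _; exact ?xq9009 : List ℤ)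

/-- the new seeds -/
noncomputable def sdX : List (List ℤ × ℕ × ℕ) := (beta% delta% lq262fe45fcd fun a b _ _ e _ _ _ _ _ _ _ _ _ _ _ =>
 (a (b sX0<|b 110 0)<|a (b sX1<|b 1 6)<|a (b sX2<|b 118 0)<|a (b sX3<|b 143 0)<|a (b sX4<|b 0 2)<|a (b sX5<|b 157 0)<|e))

theorem ok_sdX : chkSd DX [piX, oneX, iX0, iX1, iX2] sdX = true := by decide +kernel

/-- the seeds -/
noncomputable def seedsX : List (List ℤ) := [piX, oneX, iX0, iX1, iX2] ++ sdX.map Prod.fst

/-- the levels -/
def lvX : List Lv :=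
  (by
  refine (?fq9010 : (fun (On : (n : Nat) → OfNat Nat n → Nat) (In : (n : Nat) → OfNat Nat n) => ((pk61l_v1 (fun i1 => (_root_.Cfsg.Agent.TAB.Glue.Lv.mk (pk61o On In (pk61d_v1 (nat_lit 6) 
    (nat_lit 0x2f8e2448184a9954f38102671b61750a2450edb2ba6579d6964d034c2c7092c2ea2792181f) i1)) (pk61o On In (pk61d_v1 (nat_lit 2) 
    (nat_lit 0x1aaa6aaaaaaa95aaaaaaa5aaa) i1)) (pk61o On In (pk61d_v1 (nat_lit 8) 
    (nat_lit 0x90030201) (pk61d_v1 (nat_lit 2) 
    (nat_lit 0x2000800004000000030000) i1))) ((fun g1 : Nat → Nat => pk61l_v1 (fun i2 => (pk61o On In (pk61d_v1 (nat_lit 8) 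
    (nat_lit 0x3000010175010101300001011101010260000101520001010f00002b00012501010800022600020a000123000181004501190119010901090129013a015a01280142607e2260706f1e51843f2c84603f2e08) i2))) (g1 i1) (g1 (Nat.succ i1)) List.nil) fun j => (pk61d_v1 (nat_lit 7) 
    (nat_lit 0x294e951a13e74dda315cad4254684f9d3664b95264480f1c3460b14244070c14203040400000000000000000) j)) _root_.Bool.true)) (nat_lit 0) (nat_lit 49) List.nil) : List Lv))
    = ?xq9010 → (List Lv)) ?hq9010; (case hq9010 => (set_option maxRecDepth 1000000 in conv => lhs; reduce)); intro _; exact ?xq9010 (@OfNat.ofNat Nat) instOfNatNat : List Lv)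

theorem ok_lvX : okQ nmX.length nmX lvX 4 4 = true := by decide +kernel

theorem okJ_lvX : okJ nmX.length lvX = true := by decide +kernel

/-- the other rows modulo the first ones -/
def exX : List (List (ℤ × ℕ)) :=
  (by
  refine (?fq9011 : (fun (On : (n : Nat) → OfNat Nat n → Nat) (In : (n : Nat) → OfNat Nat n) (Oz : (n : Nat) → OfNat Int n → Int) (Iz : (n : Nat) → OfNat Int n) (Gz : Int → Int) => ((pk61l_v1 (fun i1 => ((fun g1 : Nat → Nat => pk61l_v1 (fun i2 => (_root_.Prod.mk (pk61y Oz Iz Gz (pk61d_v1 (nat_lit 9) 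
    (nat_lit 0xa00401010049e0100804c201008050c0100804b00100804c4010080402550100404012000804011b8040201200040201008d80201008380401008e80201009dc020100960040200a1804010080402) i2)) (pk61o On In (pk61d_v1 (nat_lit 7) 
    (nat_lit 0x904060209208020120801f920801f120801e92080c03c241018076482007448200724820300e090400dc90406d890400d490400d090400cc9040601931) i2)))) (g1 i1) (g1 (Nat.succ i1)) List.nil) fun j => (pk61d_v1 (nat_lit 7) 
    (nat_lit 0x23417ae5ab1589d19f345890e1418080) j))) (nat_lit 0) (nat_lit 17) List.nil) : List (List (ℤ × ℕ))))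
    = ?xq9011 → (List (List (ℤ × ℕ)))) ?hq9011; (case hq9011 => (set_option maxRecDepth 1000000 in conv => lhs; reduce)); intro _; exact ?xq9011 (@OfNat.ofNat Nat) instOfNatNat (@OfNat.ofNat Int) (@instOfNat) (@Neg.neg Int Int.instNegInt) : List (List (ℤ × ℕ)))

theorem ok_exX : okE nmX.length regX.length exX = true := by decide +kernel

theorem lt_exX : ∀ x ∈ rels lvX [] ++ exX, ∀ p ∈ x, p.2 < 66 := by decide +kernel

/-- certificates -/
noncomputable def gX_2_0 : ℕ × ℕ × List Cert :=
  (by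
  refine (?fq9012 : (fun (On : (n : Nat) → OfNat Nat n → Nat) (In : (n : Nat) → OfNat Nat n) => ((_root_.Prod.mk (pk61o On In (nat_lit 2)) (_root_.Prod.mk (pk61o On In (nat_lit 21)) (pk61l_v1 (fun i1 => (_root_.Cfsg.Agent.TAB.Eng.Cert.mk (pk61o On In (pk61d_v1 (nat_lit 5) 
    (nat_lit 0x29362d4839820) i1)) ((fun g1 : Nat → Nat => pk61l_v1 (fun i2 => (pk61f_v1 (pk61d_v1 (nat_lit 7) 
    (nat_lit 0x890e14180b15aa5201fbe7af1da84e9928074e5c376cd5a0c16911a242019b262c17ae5a80f9e3a70d8058ad529509d32534645182e58a80488d121407cf1d1220a132444800386cd19305cb15281c30f1c3460b1400992224078e1a3058a0a10189101c30500244070c14203040400202002030404000) i2) fun u15 => (pk61f_v1 (pk61d_v1 (nat_lit 2) 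
    (nat_lit 0xffd54ffd54fffe954fffd554ffff5954ffffa554ffffe9554fffffa9553ffffea554) i2) fun t2_5 => (pk61c_v1 (Nat.div t2_5 (nat_lit 2)) (pk61c_v1 (Nat.div t2_5 (nat_lit 1)) _root_.Cfsg.Agent.TAB.Eng.Op.one fun _ => (_root_.Cfsg.Agent.TAB.Eng.Op.gen (pk61o On In (pk61d_v1 (nat_lit 4) 
    (nat_lit 0x943293200432209320320432093200643209643296320) u15)) (pk61o On In (pk61d_v1 (nat_lit 2) 
    (nat_lit 0x3555757d5575755d55f5555) u15)) (pk61o On In (pk61d_v1 (nat_lit 1) 
    (nat_lit 0x6000000) u15)))) fun _ => (pk61c_v1 (Nat.div t2_5 (nat_lit 3)) (_root_.Cfsg.Agent.TAB.Eng.Op.mul (pk61o On In (pk61d_v1 (nat_lit 3) 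
    (nat_lit 0x46ecb6c9ac) u15)) (pk61o On In (pk61d_v1 (nat_lit 3) 
    (nat_lit 0x16c31248e4) u15))) fun _ => (_root_.Cfsg.Agent.TAB.Eng.Op.lin ((fun g2 : Nat → Nat => pk61l_v1 (fun i3 => (_root_.Prod.mk (pk61o On In (pk61d_v1 (nat_lit 21) 
    (nat_lit 0x62aaab4000740001ffffffffffb7ffff40000c0001a7c0df7b2feffffe1ecc0a00018000018aaaad0001e7fff9200011fff4680004c00039555510003d381bfc99fd1b302d9dd539343800002c4ec59d8a0a2d6b4c6315073e75d4128cb07ab072c0571fa381d6f4b4bbd2d702e8c1010ea575c03acfe83980d5a95ede0f115d1a5092f470de75e049d1111c5ce3f727631580400002c4ec59d8a0f7332b32222b19eb42129b4faeab6918c211ec35a725b2a422ec948912fe114edbd3ce4ca14fa3bb23de32268383c9aaf5b3b4a0554c98887ebdbb60c7b55658895400002d745d42e8f87b82763ee2808fdc6aaaa4aab0c55539fff581186a987bb29fd29294a9ba35c79429fe50b57d4bf3d91320a3f0e3cdd6b54182b0cd981b91c7f2dfec3aebcee10e1f66f35e9d3bbdc47390b33f9e409785b7a2898b7a16d59b54efb00000cceb263334485c339804ba0e1b36aaae0eaa9198e3dbaa83243124462e62d1a91497d929e70635c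be34df1acdac317cb3376f8afa38e797d19a67ebc249ca1178942b986f3ceaa46575688a39e30479ecd76898dcd8e7f639ee076c200000fa41a513b1c0000d2aaaa80000800003fffe5800007fffed1cf8a5555680000348b11a2fc7000004e81d600004ffffeffffe800006000259dddf8ccccb67207000047fffe7fffee0004fe3fe5f4a1562ca6c1a41681f720000024c2600000c0fbec9f475f189a1e073a93cce7740baca122fdf5b71abac9c2a3d9dd951d352515c5a6cd3fa952c316fcdc12c92a0076f24763f36ce992d7aadd23ac35a22c77830d701ad45499d6dbc24f2672554744ec8b8f5398069f3a1bf03adaf9a458cb376c77aef66696d77027e0cf379bbc7a2efdba7b2635921104baa6fdbe2fbcf38196004d0868d3e030908000029e0495a8ec776644fffa5a1b6154b86b0fbada78af969a9450aeaadaf607dae2404fcdc5a8324d41af9a6c7ccc0c991344b3ce174543f65501cba2b39ad2c85b0c8f483e2ea581490d6eb7dcb04e5ebe4aa9a750936341af19899a9051bbb52876f9dc661e8a011d1cb573003c6a0fdfd9395e9824f2c881e26b36006a51ea3b4f76807804627f9b802718) i3)) (pk61o On In (pk61d_v1 (nat_lit 5) 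
    (nat_lit 0x20c7214c22140110c8829c8530864280221918a59d2a21909194c740864298e008864299895a12a29d09214c740864298e008864299cc6996c4254b31d0950c8531d0908864298e800443214c7731a65b10952cc742543298e848444298e800443214c7839ec6b94b634aa590ca298e84a822214c748864298e88ba0d73d6c6b8ca5b1a74254b610c74254b10ca63a12a08864298e848022190a63a22f835cf5b1ae3a96c69d0952d8531d0952c64298e84a822190a63a12008864298e8) i3)))) (g2 u15) (g2 (Nat.succ u15)) List.nil) fun j => (pk61d_v1 (nat_lit 9) 
    (nat_lit 0x25f2e964a64d219047a3717894461f0c8440dfaf67abcde0ec73b85b4d96bb51a0cb622f168b358ab954a54fa61208f46a290c83401e8e66c359a4cc622e95ca0481f8d86a33180b04e210d0481200) j)))))))) (g1 i1) (g1 (Nat.succ i1)) List.nil) fun j => (pk61d_v1 (nat_lit 8) 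
    (nat_lit 0x887e747466584838261300) j)) ((fun g1 : Nat → Nat => pk61l_v1 (fun i2 => (_root_.Prod.mk (pk61o On In (pk61d_v1 (nat_lit 4) 
    (nat_lit 0x432104321065432106543210765432107654321087654321098765432109876543210) i2)) (pk61o On In (pk61d_v1 (nat_lit 13) 
    (nat_lit 0x400080010004001000400100040010004001) (pk61d_v1 (nat_lit 4) 
    (nat_lit 0x42330423304643630564363035336330364364304335331205756a589805766a58980) i2))))) (g1 i1) (g1 (Nat.succ i1)) List.nil) fun j => (pk61d_v1 (nat_lit 7) 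
    (nat_lit 0x11603b76d16a53a50500) j)))) (nat_lit 0) (nat_lit 10) List.nil))) : ℕ × ℕ × List Cert))
    = ?xq9012 → (ℕ × ℕ × List Cert)) ?hq9012; (case hq9012 => (set_option maxRecDepth 1000000 in conv => lhs; reduce)); intro _; exact ?xq9012 (@OfNat.ofNat Nat) instOfNatNat : ℕ × ℕ × List Cert)

theorem ok_gX_2_0 : chkQ DX gX_2_0.1 gX_2_0.2.1 (gX_2_0.1 ^ gX_2_0.2.1) seedsX gX_2_0.2.2 (ntd colsX []) 66 = true := by
  decide +kernel

/-- certificates -/
noncomputable def gX_2_1 : ℕ × ℕ × List Cert :=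
  (by
  refine (?fq9013 : (fun (On : (n : Nat) → OfNat Nat n → Nat) (In : (n : Nat) → OfNat Nat n) => ((_root_.Prod.mk (pk61o On In (nat_lit 2)) (_root_.Prod.mk (pk61o On In (nat_lit 21)) (pk61l_v1 (fun i1 => (_root_.Cfsg.Agent.TAB.Eng.Cert.mk (pk61o On In (pk61d_v1 (nat_lit 6) 
    (nat_lit 0xfb8df5cf2aeaa68) i1)) ((fun g1 : Nat → Nat => pk61l_v1 (fun i2 => (pk61f_v1 (pk61d_v1 (nat_lit 5) 
    (nat_lit 0x2936025182d407b9a94018b51cc04a0a039880290631004100400) i2) fun u15 => (pk61f_v1 (pk61d_v1 (nat_lit 2) 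
    (nat_lit 0xa4a94a94a94a4a4a94a94) i2) fun t2_5 => (pk61c_v1 (Nat.div t2_5 (nat_lit 1)) _root_.Cfsg.Agent.TAB.Eng.Op.one fun _ => (pk61c_v1 (Nat.div t2_5 (nat_lit 2)) (_root_.Cfsg.Agent.TAB.Eng.Op.gen (pk61o On In (pk61d_v1 (nat_lit 3) 
    (nat_lit 0x20d0416890) u15)) (pk61o On In (pk61d_v1 (nat_lit 2) 
    (nat_lit 0x1d55755) u15)) (pk61o On In (nat_lit 0))) fun _ => (_root_.Cfsg.Agent.TAB.Eng.Op.lin ((fun g2 : Nat → Nat => pk61l_v1 (fun i3 => (_root_.Prod.mk (pk61o On In (pk61d_v1 (nat_lit 21) 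
    (nat_lit 0x6fffff8000300000b55554aaab4de361c590a59578400002d1111e000482aaa54e38e1555c00000b555560000c000012aaaa800008000020000100001000006ac0de0000200000dffffd0000a000017fffec00004000037ffff400029ffff3d5556bffff) i3)) (pk61o On In (pk61d_v1 (nat_lit 3) 
    (nat_lit 0x818982a260a8982902818982a160a) i3)))) (g2 u15) (g2 (Nat.succ u15)) List.nil) fun j => (pk61d_v1 (nat_lit 6) 
    (nat_lit 0x9e692385e75b61755244f38c2c91850c0) j)))))))) (g1 i1) (g1 (Nat.succ i1)) List.nil) fun j => (pk61d_v1 (nat_lit 6) 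
    (nat_lit 0x2a9a069a51440c180) j)) ((fun g1 : Nat → Nat => pk61l_v1 (fun i2 => (_root_.Prod.mk (pk61o On In (pk61d_v1 (nat_lit 2) 
    (nat_lit 0x12492444924) i2)) (pk61o On In (pk61d_v1 (nat_lit 4) 
    (nat_lit 0x414418812414121441441) i2)))) (g1 i1) (g1 (Nat.succ i1)) List.nil) fun j => (pk61d_v1 (nat_lit 5) 
    (nat_lit 0x56706b54a41860) j)))) (nat_lit 0) (nat_lit 10) List.nil))) : ℕ × ℕ × List Cert))
    = ?xq9013 → (ℕ × ℕ × List Cert)) ?hq9013; (case hq9013 => (set_option maxRecDepth 1000000 in conv => lhs; reduce)); intro _; exact ?xq9013 (@OfNat.ofNat Nat) instOfNatNat : ℕ × ℕ × List Cert)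

theorem ok_gX_2_1 : chkQ DX gX_2_1.1 gX_2_1.2.1 (gX_2_1.1 ^ gX_2_1.2.1) seedsX gX_2_1.2.2 (ntd colsX []) 66 = true := by
  decide +kernel

/-- certificates -/
noncomputable def gX_2_2 : ℕ × ℕ × List Cert :=
  (by
  refine (?fq9014 : (fun (On : (n : Nat) → OfNat Nat n → Nat) (In : (n : Nat) → OfNat Nat n) => ((_root_.Prod.mk (pk61o On In (nat_lit 2)) (_root_.Prod.mk (pk61o On In (nat_lit 21)) (pk61l_v1 (fun i1 => (_root_.Cfsg.Agent.TAB.Eng.Cert.mk (pk61o On In (pk61d_v1 (nat_lit 7) 
    (nat_lit 0x3bf6e976e5bb556a3f) i1)) ((fun g1 : Nat → Nat => pk61l_v1 (fun i2 => (pk61f_v1 (pk61d_v1 (nat_lit 5) 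
    (nat_lit 0x2d56029358251829207b9a83818b518a04a08039860290401882008000) i2) fun u15 => (pk61f_v1 (pk61d_v1 (nat_lit 2) 
    (nat_lit 0xa4a4a94a94a94a4a4a4a4a4) i2) fun t2_5 => (pk61c_v1 (Nat.div t2_5 (nat_lit 1)) _root_.Cfsg.Agent.TAB.Eng.Op.one fun _ => (pk61c_v1 (Nat.div t2_5 (nat_lit 2)) (_root_.Cfsg.Agent.TAB.Eng.Op.gen (pk61o On In (pk61d_v1 (nat_lit 3) 
    (nat_lit 0x2483483182) u15)) (pk61o On In (pk61d_v1 (nat_lit 2) 
    (nat_lit 0x1555575) u15)) (pk61o On In (nat_lit 0))) fun _ => (_root_.Cfsg.Agent.TAB.Eng.Op.lin ((fun g2 : Nat → Nat => pk61l_v1 (fun i3 => (_root_.Prod.mk (pk61o On In (pk61d_v1 (nat_lit 21) 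
    (nat_lit 0x2fffff80000800005fffff0000100000dffffe0000455555000010000040000200003dffff8ffffc0000400001a38e3a000143fffaf5555a0003000005ffffe00002000009555560000600001212f680000800002d555580003000006fffff80003) i3)) (pk61o On In (pk61d_v1 (nat_lit 3) 
    (nat_lit 0x102818595130544c148140a050281) i3)))) (g2 u15) (g2 (Nat.succ u15)) List.nil) fun j => (pk61d_v1 (nat_lit 6) 
    (nat_lit 0x9a58e281f75b69855448f38c2c9206143080) j)))))))) (g1 i1) (g1 (Nat.succ i1)) List.nil) fun j => (pk61d_v1 (nat_lit 6) 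
    (nat_lit 0x2eaa681a510308100) j)) ((fun g1 : Nat → Nat => pk61l_v1 (fun i2 => (_root_.Prod.mk (pk61o On In (pk61d_v1 (nat_lit 2) 
    (nat_lit 0x112492444444) i2)) (pk61o On In (pk61d_v1 (nat_lit 4) 
    (nat_lit 0x21212414418412121214141) i2)))) (g1 i1) (g1 (Nat.succ i1)) List.nil) fun j => (pk61d_v1 (nat_lit 5) 
    (nat_lit 0x5eb38354831040) j)))) (nat_lit 0) (nat_lit 10) List.nil))) : ℕ × ℕ × List Cert))
    = ?xq9014 → (ℕ × ℕ × List Cert)) ?hq9014; (case hq9014 => (set_option maxRecDepth 1000000 in conv => lhs; reduce)); intro _; exact ?xq9014 (@OfNat.ofNat Nat) instOfNatNat : ℕ × ℕ × List Cert)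

theorem ok_gX_2_2 : chkQ DX gX_2_2.1 gX_2_2.2.1 (gX_2_2.1 ^ gX_2_2.2.1) seedsX gX_2_2.2.2 (ntd colsX []) 66 = true := by
  decide +kernel

/-- certificates -/
noncomputable def gX_3_0 : ℕ × ℕ × List Cert :=
  (by
  refine (?fq9015 : (fun (On : (n : Nat) → OfNat Nat n → Nat) (In : (n : Nat) → OfNat Nat n) => ((_root_.Prod.mk (pk61o On In (nat_lit 3)) (_root_.Prod.mk (pk61o On In (nat_lit 17)) (pk61l_v1 (fun i1 => (_root_.Cfsg.Agent.TAB.Eng.Cert.mk (pk61o On In (pk61d_v1 (nat_lit 6) 
    (nat_lit 0xbaca113cd100) i1)) ((fun g1 : Nat → Nat => pk61l_v1 (fun i2 => (pk61f_v1 (pk61d_v1 (nat_lit 7) 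
    (nat_lit 0x25ca92c17c88f1a2ae5ab0044870a0ab54a40407ef9ebc76e9cb86ed9aa84e992a446890a03e7803466c98b05eb96ac564481d386cd19305c02a52a13a64a9118f2c54a1324440224280f9e3a70d9a3260b962a5098e1a3058a203c70d182c509101c012224078e1a3058a12203860a1018202004880e1828406080800c142030404000) i2) fun u15 => (pk61f_v1 (pk61d_v1 (nat_lit 2) 
    (nat_lit 0xfd7fd53fd53fffffd555553ffffe95553fffe5553fffffffeaa555553fffffffffaaaaa5554) i2) fun t2_5 => (pk61c_v1 (Nat.div t2_5 (nat_lit 2)) (pk61c_v1 (Nat.div t2_5 (nat_lit 1)) _root_.Cfsg.Agent.TAB.Eng.Op.one fun _ => (_root_.Cfsg.Agent.TAB.Eng.Op.gen (pk61o On In (pk61d_v1 (nat_lit 4) 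
    (nat_lit 0x3062042020653094320942043009432094320943209654320) u15)) (pk61o On In (pk61d_v1 (nat_lit 3) 
    (nat_lit 0x124924c89244925248928924a492249249249) u15)) (pk61o On In (nat_lit 0)))) fun _ => (pk61c_v1 (Nat.div t2_5 (nat_lit 3)) (_root_.Cfsg.Agent.TAB.Eng.Op.mul (pk61o On In (pk61d_v1 (nat_lit 4) 
    (nat_lit 0x765dcba9dccbba9876) u15)) (pk61o On In (pk61d_v1 (nat_lit 4) 
    (nat_lit 0x35477888ccbb446666) u15))) fun _ => (_root_.Cfsg.Agent.TAB.Eng.Op.lin ((fun g2 : Nat → Nat => pk61l_v1 (fun i3 => (_root_.Prod.mk (pk61o On In (pk61d_v1 (nat_lit 27) (Nat.add 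
    (nat_lit 0x72c07cf7bbc78986d1608f68be4018d9278fc8d0abe0856909efc021720b1975138a4e046cea788e3c86c2318b486ba08c1c2ae07ac372980be72ee8b46f0c2adb62613586a566d65435c9d56eab68843f3ef1a3239b944d7e44123a1ad111b7d271e2b8a05b1689df7e4922fc9e80214d5fe69193cfdedf9a6cce12951aa5f5b0941fd2508de2fb293fe3834a9117d019e3ca0d1ce51b1a6f30e84aaef7fa78f47ad8d35d822e03f78126a3ca36170ef0e5d1d079eb366782ed58365f937f6c9292970d50ae960261f2df404232a73c597f8f0865e5fa19933e0f9e7a096bc4727ec9a210dac8d035d99e5c24e947735aa493243616f597fd5cab46afe7b42b1c6cd61aeb342a12c2fb30e33a34b7874822165ff1853e079048027e2b4e4c312ad6582d3212788f86f4b2486cf9720087a7f91454158761e7356dc965c0f22b41e36e6dc8d585db1e1a65fead6881004406e00000037a48aac000028979aaac54651e3a836976111df9c32ed53ea9ce032b46c4a157c6f07db78380825a6631be0d89b2f50be7f78c5cbfddc2f024ba5baa55324a9f7525b25e43e14620f79f1f0f9c2235744de38763a4a8e4a9db264b1923e677006fb929b5be2b63598182d8d26bfa564aefbe6de30c0b1d4888cc23bf465e7af1a2b059aa59f878addb148a89db06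129c6f315dd48158c58295b3da8978f4a0be5cf7a05b9d9f5be5c2cb50609b131624d6f9599db27f314e384d115226fcd9d79174f17e0382395cad4730c8b82d67b3d44c8d349201e72a6a33eef2eb5e135d3e9dd8c4d46d4b47b96c1e1d30affb8d0f3bf9e10293679fe78467b8578e2d9b583c5cecc63c30703839e4f82d736f4a3bc08b46591e88a52519a8c7cc6f728388c4fa615a77c07666331b4fd1cf32548cf6b2d7f292a71c32c0cd5200511eea52aeb7b8d66f016383cf8d52e846d4d8b82b67ffca5daac089e4fac2c573b6c4b0be6640f8ce982df431f4097b5e0e70a417fedb538bbc3cf269951c2ad224f40abd571f8c274fc9ff2cfc5709bd04b8e54de9c89e03e427305479240b720c9a7edefe269334b103993c7538d85075087f86c62e66755714f27c20ae5a41a66b76b901a4cac5f4415299f6375096b0b1ce702da08045e41e1e298efc128a5433d528e98a174d1f3484eab96fd523374e3744c1814b35e44f9275762e9bb5949259132a03542310458d66fd1441bfd6f1e05e91e1ba6c8f652a963c1a859335f4ce8a4ecc79e03fc8ff7554275f211e39747974122eb5151ba87d58b706496ab043285beba773d58969eb8fcf6045b83c290f31c7c7922a726383fe7da695edc1fb01393a0e9692d4ca61d394b48332aa1a482bd906b6f31deecf63ca2889853c23972851cb01c018b527429527bcebde33f6)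 (Nat.shiftLeft 
    (nat_lit 0x3d942e2290d745def24a36bc9ac000000166a1a22000000ca435d066a1a264b4354c000000c000000d02674e0000013486ba0690d7438000001f650b7e00000180000009c6509e00000121486ba2b9e4b7388808cef95dbfb97bb24b6fa23770d6a2d579285e597d2e99f6afd6147d1132868e6286b25d143265441667ce673230741f4fb0356e15aaa82aef64992e600eaf2561553be6a77bbfe2c77156c697ce0b922d0b43f4d730de96f7e1ff2be537591c9ebbf258f1e6f12758ca5f80f477b716d1896ec7d95287f4f2c16e058627fde465b13b68a62c358ab034ec61668468cfa9ff6829ee6eea8fbb654e1c7a9a4ab160c15d3743f31c872b8f0962542cd8e8827976856ce80278cf83d185e9ef0a38c7507772a7bc649b29f03cfc79c97c4e344f08f8250646fc986c8ab2031289f9c06f9456ecbec00000002a6c6a78000001f5af198d579297d8cc6919fffcb3dad8f841af235850f65358780ca303f28731eb6a23f45b959776a06708aed8975d85bc3bda40587bc46bc18080cad739ee6899cc23af39ee3e037cf5c84d9c24daf26cf98c3995686221c129c8efc769bae928f6042a2cd8d6fb0d351e01080fe20eaa5de139c4999a42d5ba148f3045095e32aac1259e1861ca6bd1f52d51460000004290d740000003000000200000054349f2521ae85290d73f486ba14000000d21ae83a435d0363c9ede95f8efd21ae85a435d0a6d7935d486b9f6d793571b5e4d8a435d10cd4344c4fdb862f0a1503fdc090ff7028d586b1c3d942e103ffe24000000962ca93000000628b3a1000000dcf25ee7587f9839a868576c678f20ed09bbf941e146be1fcdb671e09659)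 (nat_lit 8000))) i3)) (pk61o On In (pk61d_v1 (nat_lit 6) 
    (nat_lit 0x204204610508400218414210004359455251045338f4122cd38f41124c34e40824a2cc34e3c41c824a2cc34e08318720928b30d0420c41461c824a2cc00108310518720928b49044e40b34e3c930e10824b30d1c928c08318720928b1051c82800420c41461c824e30d28c18928b1c82821061c824414800108310518779c75a71565a6d761a39359765455660c4524d45565cf49351624a38f41149351530d4114941c824b30d38f41149324a2ce3d04831461c824a2cc34e3d04410841461c824a2cc34e3d000108310518720928b30d38f8e189e85d7a061c75e7da6dc79459969b71d31355865a6dc3514945d865a6cc4114935155976196892cf41149351559761924a34e3d04524d45565d81c824c34e3d04524d45565c518720b30d38f41149351558720928b30d38f41149351510518720928b30d38f4114935020c41461c824a2cc34e3d04524c20c41461c824a2cc34e3d045200108310518720928b30d38f411) i3)))) (g2 u15) (g2 (Nat.succ u15)) List.nil) fun j => (pk61d_v1 (nat_lit 9) 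
    (nat_lit 0x1ddee76bb3d8eb753a5d1e7f3795c9e3f1785bedc6cf57a2cc633017fbedeeef74b75aac55da9d4aa14ea551e833e9b4d6673196caa4b218cc5215047c3c5c6d46230d82bf5e2dd66ac5226d1e823a194aa461a88c2400) j)))))))) (g1 i1) (g1 (Nat.succ i1)) List.nil) fun j => (pk61d_v1 (nat_lit 8) 
    (nat_lit 0x969189816955452500) j)) ((fun g1 : Nat → Nat => pk61l_v1 (fun i2 => (_root_.Prod.mk (pk61o On In (pk61d_v1 (nat_lit 5) 
    (nat_lit 0x10403104031040b52507314831040941cc520c4101cc520c4103dcd62d4941cc520c4104a307b9ac5a928398a418820) i2)) (pk61o On In (pk61d_v1 (nat_lit 26) 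
    (nat_lit 0xa435d04081bf100acfec004ce3000222c0002d900003cc000051000006c000009000000c000001) (pk61d_v1 (nat_lit 4) 
    (nat_lit 0xb2121102120342543321120323232321032212110544332655454431043876464344a9775340) i2))))) (g1 i1) (g1 (Nat.succ i1)) List.nil) fun j => (pk61d_v1 (nat_lit 7) 
    (nat_lit 0x4c93160b5568c980) j)))) (nat_lit 0) (nat_lit 8) List.nil))) : ℕ × ℕ × List Cert))
    = ?xq9015 → (ℕ × ℕ × List Cert)) ?hq9015; (case hq9015 => (set_option maxRecDepth 1000000 in conv => lhs; reduce)); intro _; exact ?xq9015 (@OfNat.ofNat Nat) instOfNatNat : ℕ × ℕ × List Cert)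

theorem ok_gX_3_0 : chkQ DX gX_3_0.1 gX_3_0.2.1 (gX_3_0.1 ^ gX_3_0.2.1) seedsX gX_3_0.2.2 (ntd colsX []) 66 = true := by
  decide +kernel

/-- certificates -/
noncomputable def gX_3_1 : ℕ × ℕ × List Cert :=
  (by
  refine (?fq9016 : (fun (On : (n : Nat) → OfNat Nat n → Nat) (In : (n : Nat) → OfNat Nat n) => ((_root_.Prod.mk (pk61o On In (nat_lit 3)) (_root_.Prod.mk (pk61o On In (nat_lit 17)) (pk61l_v1 (fun i1 => (_root_.Cfsg.Agent.TAB.Eng.Cert.mk (pk61o On In (pk61d_v1 (nat_lit 7) 
    (nat_lit 0xc582b547cf1d30) i1)) ((fun g1 : Nat → Nat => pk61l_v1 (fun i2 => (pk61f_v1 (pk61d_v1 (nat_lit 5) 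
    (nat_lit 0x6f520671105ed5a41ee04e51835807b9ac5a9205a92841cc0398a4290601882010400) i2) fun u15 => (pk61f_v1 (pk61d_v1 (nat_lit 2) 
    (nat_lit 0x29292a952a94aa54aa54aa54aa54) i2) fun t2_5 => (pk61c_v1 (Nat.div t2_5 (nat_lit 1)) _root_.Cfsg.Agent.TAB.Eng.Op.one fun _ => (pk61c_v1 (Nat.div t2_5 (nat_lit 2)) (_root_.Cfsg.Agent.TAB.Eng.Op.gen (pk61o On In (pk61d_v1 (nat_lit 4) 
    (nat_lit 0x62040820963620903) u15)) (pk61o On In (pk61d_v1 (nat_lit 2) 
    (nat_lit 0x1555555569) u15)) (pk61o On In (nat_lit 0))) fun _ => (_root_.Cfsg.Agent.TAB.Eng.Op.lin ((fun g2 : Nat → Nat => pk61l_v1 (fun i3 => (_root_.Prod.mk (pk61o On In (pk61d_v1 (nat_lit 27) 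
    (nat_lit 0x3350d10dfca0f1bf941df63c9ede90d742d21ae84a435d03486b9fe3ebc59c46bc177b285c0daf26b19a8688a90d74d521ae8ea435d15486ba2290d742521ae7ca1a4f90a435d01486b9f1b5e4d620d79003143580521ae80106bc800000240000018000001) (pk61d_v1 (nat_lit 5) 
    (nat_lit 0x2e102420306ecadbad0685771e5400c37096dc10061bba7bb401108020cac40206f85216f) i3))) (pk61o On In (pk61d_v1 (nat_lit 3) 
    (nat_lit 0x8140e954053ae160acaa80a7957014f4aa029e75c053) i3)))) (g2 u15) (g2 (Nat.succ u15)) List.nil) fun j => (pk61d_v1 (nat_lit 6) 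
    (nat_lit 0x3beb8df5d32c2cae99e48e17db69859244f349206100) j)))))))) (g1 i1) (g1 (Nat.succ i1)) List.nil) fun j => (pk61d_v1 (nat_lit 6) 
    (nat_lit 0x37cef9e0610200) j)) ((fun g1 : Nat → Nat => pk61l_v1 (fun i2 => (_root_.Prod.mk (pk61o On In (pk61d_v1 (nat_lit 2) 
    (nat_lit 0x44e4e4e4e4e4e4) i2)) (pk61o On In (pk61d_v1 (nat_lit 26) 
    (nat_lit 0xa435d04000009000000c000001) (pk61d_v1 (nat_lit 2) 
    (nat_lit 0x4494d894949494) i2))))) (g1 i1) (g1 (Nat.succ i1)) List.nil) fun j => (pk61d_v1 (nat_lit 5) 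
    (nat_lit 0x1cd629062080) j)))) (nat_lit 0) (nat_lit 8) List.nil))) : ℕ × ℕ × List Cert))
    = ?xq9016 → (ℕ × ℕ × List Cert)) ?hq9016; (case hq9016 => (set_option maxRecDepth 1000000 in conv => lhs; reduce)); intro _; exact ?xq9016 (@OfNat.ofNat Nat) instOfNatNat : ℕ × ℕ × List Cert)

theorem ok_gX_3_1 : chkQ DX gX_3_1.1 gX_3_1.2.1 (gX_3_1.1 ^ gX_3_1.2.1) seedsX gX_3_1.2.2 (ntd colsX []) 66 = true := by
  decide +kernel

/-- certificates -/
noncomputable def gX_3_2 : ℕ × ℕ × List Cert :=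
  (by
  refine (?fq9017 : (fun (On : (n : Nat) → OfNat Nat n → Nat) (In : (n : Nat) → OfNat Nat n) => ((_root_.Prod.mk (pk61o On In (nat_lit 3)) (_root_.Prod.mk (pk61o On In (nat_lit 17)) (pk61l_v1 (fun i1 => (_root_.Cfsg.Agent.TAB.Eng.Cert.mk (pk61o On In (pk61d_v1 (nat_lit 8) 
    (nat_lit 0x918a87837a787270) i1)) ((fun g1 : Nat → Nat => pk61l_v1 (fun i2 => (pk61f_v1 (pk61d_v1 (nat_lit 5) 
    (nat_lit 0x41e9039006b0e05a8c04a0a039880290601882010400) i2) fun u15 => (pk61f_v1 (pk61d_v1 (nat_lit 2) 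
    (nat_lit 0x2924a4a4a4a4a4aa54) i2) fun t2_5 => (pk61c_v1 (Nat.div t2_5 (nat_lit 1)) _root_.Cfsg.Agent.TAB.Eng.Op.one fun _ => (pk61c_v1 (Nat.div t2_5 (nat_lit 2)) (_root_.Cfsg.Agent.TAB.Eng.Op.gen (pk61o On In (pk61d_v1 (nat_lit 4) 
    (nat_lit 0x600080630) u15)) (pk61o On In (pk61d_v1 (nat_lit 2) 
    (nat_lit 0x556a5) u15)) (pk61o On In (nat_lit 0))) fun _ => (_root_.Cfsg.Agent.TAB.Eng.Op.lin ((fun g2 : Nat → Nat => pk61l_v1 (fun i3 => (_root_.Prod.mk (pk61o On In (pk61d_v1 (nat_lit 27) 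
    (nat_lit 0x290d744521ae84a435d03486b9fe4f28213350d11290d740020d7900000018000001) (pk61d_v1 (nat_lit 4) 
    (nat_lit 0x710071031071021041041785669) i3))) (pk61o On In (pk61d_v1 (nat_lit 3) 
    (nat_lit 0x40940a05028140e954053) i3)))) (g2 u15) (g2 (Nat.succ u15)) List.nil) fun j => (pk61d_v1 (nat_lit 5) 
    (nat_lit 0x39bce2f5a4a2f7316941880) j)))))))) (g1 i1) (g1 (Nat.succ i1)) List.nil) fun j => (pk61d_v1 (nat_lit 6) 
    (nat_lit 0x237dc61440c200) j)) ((fun g1 : Nat → Nat => pk61l_v1 (fun i2 => (_root_.Prod.mk (pk61o On In (pk61d_v1 (nat_lit 2) 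
    (nat_lit 0x4444444e4) i2)) (pk61o On In (pk61d_v1 (nat_lit 4) 
    (nat_lit 0x313131313131319331) i2)))) (g1 i1) (g1 (Nat.succ i1)) List.nil) fun j => (pk61d_v1 (nat_lit 5) 
    (nat_lit 0x128398a41880) j)))) (nat_lit 0) (nat_lit 8) List.nil))) : ℕ × ℕ × List Cert))
    = ?xq9017 → (ℕ × ℕ × List Cert)) ?hq9017; (case hq9017 => (set_option maxRecDepth 1000000 in conv => lhs; reduce)); intro _; exact ?xq9017 (@OfNat.ofNat Nat) instOfNatNat : ℕ × ℕ × List Cert)

theorem ok_gX_3_2 : chkQ DX gX_3_2.1 gX_3_2.2.1 (gX_3_2.1 ^ gX_3_2.2.1) seedsX gX_3_2.2.2 (ntd colsX []) 66 = true := by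
  decide +kernel

/-- certificates -/
noncomputable def gX_5_0 : ℕ × ℕ × List Cert :=
  (by
  refine (?fq9018 : (fun (On : (n : Nat) → OfNat Nat n → Nat) (In : (n : Nat) → OfNat Nat n) => ((_root_.Prod.mk (pk61o On In (nat_lit 5)) (_root_.Prod.mk (pk61o On In (nat_lit 2)) (pk61l_v1 (fun i1 => (_root_.Cfsg.Agent.TAB.Eng.Cert.mk (pk61o On In (pk61d_v1 (nat_lit 7) 
    (nat_lit 0x509ee1ba950992a446488901e2c509101c2840608080) i1)) ((fun g1 : Nat → Nat => pk61l_v1 (fun i2 => (pk61f_v1 (pk61d_v1 (nat_lit 6) 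
    (nat_lit 0xa685009e64c09644808e24408604007de3c075c3806da3406583005d62c05542804d22404502003ce1c034c1802ca1402481001c60c01440800000c2040040000000) i2) fun u15 => (pk61f_v1 (pk61d_v1 (nat_lit 2) 
    (nat_lit 0xa4a4a4a4a4a4a4a4a4a4a4a4a4a4a4a4a4a4a40a4a40) i2) fun t2_5 => (pk61c_v1 (Nat.div t2_5 (nat_lit 1)) _root_.Cfsg.Agent.TAB.Eng.Op.one fun _ => (pk61c_v1 (Nat.div t2_5 (nat_lit 2)) (_root_.Cfsg.Agent.TAB.Eng.Op.gen (pk61o On In (pk61d_v1 (nat_lit 2) 
    (nat_lit 0x3222aa320aa) u15)) (pk61o On In (nat_lit 1)) (pk61o On In (nat_lit 0))) fun _ => (_root_.Cfsg.Agent.TAB.Eng.Op.lin ((fun g2 : Nat → Nat => pk61l_v1 (fun i3 => (_root_.Prod.mk (pk61o On In (pk61d_v1 (nat_lit 5) 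
    (nat_lit 0x6360844109431286650c4816c42d886250c4a19ac31285a40cc41088332842a0c4a18942140428) i3)) (pk61o On In (pk61d_v1 (nat_lit 2) 
    (nat_lit 0x21861861861861861861861861861861) i3)))) (g2 u15) (g2 (Nat.succ u15)) List.nil) fun j => (pk61d_v1 (nat_lit 6) 
    (nat_lit 0x3ffbcef9e36d73cb0bedb2aa679a48e181e75b6985d551244f38c2c9206143080) j)))))))) (g1 i1) (g1 (Nat.succ i1)) List.nil) fun j => (pk61d_v1 (nat_lit 7) 
    (nat_lit 0x2c54a13244480f1c3460b14244070c14203058a0c08080) j)) ((fun g1 : Nat → Nat => pk61l_v1 (fun i2 => (_root_.Prod.mk (pk61o On In (pk61d_v1 (nat_lit 1) 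
    (nat_lit 0x2aaaaaaaaa28) i2)) (pk61o On In (pk61d_v1 (nat_lit 3) 
    (nat_lit 0x29a69a69a69a69a69a69a69a69a69269a49) i2)))) (g1 i1) (g1 (Nat.succ i1)) List.nil) fun j => (pk61d_v1 (nat_lit 6) 
    (nat_lit 0xbacaa89a48a079c69859449038c2881c6102040) j)))) (nat_lit 0) (nat_lit 25) List.nil))) : ℕ × ℕ × List Cert))
    = ?xq9018 → (ℕ × ℕ × List Cert)) ?hq9018; (case hq9018 => (set_option maxRecDepth 1000000 in conv => lhs; reduce)); intro _; exact ?xq9018 (@OfNat.ofNat Nat) instOfNatNat : ℕ × ℕ × List Cert)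

theorem ok_gX_5_0 : chkQ DX gX_5_0.1 gX_5_0.2.1 (gX_5_0.1 ^ gX_5_0.2.1) seedsX gX_5_0.2.2 (ntd colsX []) 66 = true := by
  decide +kernel

/-- certificates -/
noncomputable def gX_7_0 : ℕ × ℕ × List Cert :=
  (by
  refine (?fq9019 : (fun (On : (n : Nat) → OfNat Nat n → Nat) (In : (n : Nat) → OfNat Nat n) => ((_root_.Prod.mk (pk61o On In (nat_lit 7)) (_root_.Prod.mk (pk61o On In (nat_lit 3)) (pk61l_v1 (fun i1 => (_root_.Cfsg.Agent.TAB.Eng.Cert.mk (pk61o On In (pk61d_v1 (nat_lit 6) 
    (nat_lit 0x9a592351340f3092071440c2040) i1)) ((fun g1 : Nat → Nat => pk61l_v1 (fun i2 => (pk61f_v1 (pk61d_v1 (nat_lit 5) 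
    (nat_lit 0xff9e0ef1c0de9a0ce180bd960ad1409c9208c1007b8e06b0c05a8a04a08039860290401882008000) i2) fun u15 => (pk61f_v1 (pk61d_v1 (nat_lit 2) 
    (nat_lit 0xa4a4a4a4a4a4a4a4a4a4a4a4a4a4a4a4) i2) fun t2_5 => (pk61c_v1 (Nat.div t2_5 (nat_lit 1)) _root_.Cfsg.Agent.TAB.Eng.Op.one fun _ => (pk61c_v1 (Nat.div t2_5 (nat_lit 2)) (_root_.Cfsg.Agent.TAB.Eng.Op.gen (pk61o On In (pk61d_v1 (nat_lit 2) 
    (nat_lit 0x888c8888) u15)) (pk61o On In (nat_lit 1)) (pk61o On In (nat_lit 0))) fun _ => (_root_.Cfsg.Agent.TAB.Eng.Op.lin ((fun g2 : Nat → Nat => pk61l_v1 (fun i3 => (_root_.Prod.mk (pk61o On In (pk61d_v1 (nat_lit 9) 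
    (nat_lit 0x8041201139d002ac598044e0700c140e01378440208038049c7400999f0013781c03251c80582c700b3a32012381c02a2710060ef5) i3)) (pk61o On In (pk61d_v1 (nat_lit 2) 
    (nat_lit 0x861861861861861861861861) i3)))) (g2 u15) (g2 (Nat.succ u15)) List.nil) fun j => (pk61d_v1 (nat_lit 6) 
    (nat_lit 0x30bedb2aa679a48e181e75b6985d551244f38c2c9206143080) j)))))))) (g1 i1) (g1 (Nat.succ i1)) List.nil) fun j => (pk61d_v1 (nat_lit 7) 
    (nat_lit 0x101e3868c162848810203860a101820200) j)) ((fun g1 : Nat → Nat => pk61l_v1 (fun i2 => (_root_.Prod.mk (pk61o On In (pk61d_v1 (nat_lit 1) 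
    (nat_lit 0xaaaaaaaa) i2)) (pk61o On In (pk61d_v1 (nat_lit 3) 
    (nat_lit 0xe79e79e79e79e79e79e79e79) i2)))) (g1 i1) (g1 (Nat.succ i1)) List.nil) fun j => (pk61d_v1 (nat_lit 6) 
    (nat_lit 0x2079c69859449041038c288184080) j)))) (nat_lit 0) (nat_lit 18) List.nil))) : ℕ × ℕ × List Cert))
    = ?xq9019 → (ℕ × ℕ × List Cert)) ?hq9019; (case hq9019 => (set_option maxRecDepth 1000000 in conv => lhs; reduce)); intro _; exact ?xq9019 (@OfNat.ofNat Nat) instOfNatNat : ℕ × ℕ × List Cert)

theorem ok_gX_7_0 : chkQ DX gX_7_0.1 gX_7_0.2.1 (gX_7_0.1 ^ gX_7_0.2.1) seedsX gX_7_0.2.2 (ntd colsX []) 66 = true := by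
  decide +kernel

/-- certificates -/
def gX_11_0 : ℕ × ℕ × List Cert := (beta% delta% lq262fe45fcd fun a b _ _ e _ _ _ j k _ _ _ _ _ _ =>
 (b 11<|b 1
 (a (j 0 (a k<|e) (a (b 0 1)<|e))<|a (j 1 (a k<|e) (a (b 0 1)<|e))<|a (j 4 (a k<|e) (a (b 0 1)<|e))<|a (j 5 (a k<|e) (a (b 0 1)<|e))<|a (j 10 (a k<|e)
 (a (b 0 1)<|e))<|a (j 11 (a k<|e) (a (b 0 1)<|e))<|e)))

theorem ok_gX_11_0 : chkQ DX gX_11_0.1 gX_11_0.2.1 (gX_11_0.1 ^ gX_11_0.2.1) seedsX gX_11_0.2.2 (ntd colsX []) 66 = true := by
  decide +kernel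

/-- certificates -/
def gX_13_0 : ℕ × ℕ × List Cert := (beta% delta% lq262fe45fcd fun a b _ _ e _ _ _ j k _ _ _ _ _ _ =>
 (b 13<|b 1
 (a (j 0 (a k<|e) (a (b 0 1)<|e))<|a (j 1 (a k<|e) (a (b 0 1)<|e))<|a (j 4 (a k<|e) (a (b 0 1)<|e))<|a (j 5 (a k<|e) (a (b 0 1)<|e))<|a (j 9 e e)<|
 a (j 12 e e)<|e)))

theorem ok_gX_13_0 : chkQ DX gX_13_0.1 gX_13_0.2.1 (gX_13_0.1 ^ gX_13_0.2.1) seedsX gX_13_0.2.2 (ntd colsX []) 66 = true := by
  decide +kernel

/-- certificates -/
def gX_17_0 : ℕ × ℕ × List Cert := (beta% delta% lq262fe45fcd fun a b _ _ e _ _ _ j k _ _ _ _ _ _ =>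
 (b 17<|b 1
 (a (j 0 (a k<|e) (a (b 0 1)<|e))<|a (j 1 (a k<|e) (a (b 0 1)<|e))<|e)))

theorem ok_gX_17_0 : chkQ DX gX_17_0.1 gX_17_0.2.1 (gX_17_0.1 ^ gX_17_0.2.1) seedsX gX_17_0.2.2 (ntd colsX []) 66 = true := by
  decide +kernel

/-- certificates -/
def gX_23_0 : ℕ × ℕ × List Cert := (beta% delta% lq262fe45fcd fun a b _ _ e _ _ _ j k _ _ _ _ _ _ =>
 (b 23<|b 1
 (a (j 0 (a k<|e) (a (b 0 1)<|e))<|a (j 1 (a k<|e) (a (b 0 1)<|e))<|e)))

theorem ok_gX_23_0 : chkQ DX gX_23_0.1 gX_23_0.2.1 (gX_23_0.1 ^ gX_23_0.2.1) seedsX gX_23_0.2.2 (ntd colsX []) 66 = true := by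
  decide +kernel

/-- certificates -/
def gX_29_0 : ℕ × ℕ × List Cert := (beta% delta% lq262fe45fcd fun a b _ _ e _ _ _ j k _ _ _ _ _ _ =>
 (b 29<|b 1
 (a (j 0 (a k<|e) (a (b 0 1)<|e))<|a (j 1 (a k<|e) (a (b 0 1)<|e))<|e)))

theorem ok_gX_29_0 : chkQ DX gX_29_0.1 gX_29_0.2.1 (gX_29_0.1 ^ gX_29_0.2.1) seedsX gX_29_0.2.2 (ntd colsX []) 66 = true := by
  decide +kernel

/-- the certificates -/
noncomputable def gX : List (ℕ × ℕ × List Cert) :=
  (beta% delta% lq262fe45fcd fun a _ _ _ e _ _ _ _ _ _ _ _ _ _ _ =>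
 (a gX_2_0<|a gX_2_1<|a gX_2_2<|a gX_3_0<|a gX_3_1<|a gX_3_2<|a gX_5_0<|a gX_7_0<|a gX_11_0<|a gX_13_0<|a gX_17_0<|a gX_23_0<|
 a gX_29_0<|e))

theorem ok_gX : ∀ y ∈ gX, chkQ DX y.1 y.2.1 (y.1 ^ y.2.1) seedsX y.2.2 (ntd colsX []) 66 = true :=
  List.forall_mem_cons.2 ⟨ok_gX_2_0, List.forall_mem_cons.2 ⟨ok_gX_2_1, List.forall_mem_cons.2 ⟨ok_gX_2_2,
  List.forall_mem_cons.2 ⟨ok_gX_3_0, List.forall_mem_cons.2 ⟨ok_gX_3_1, List.forall_mem_cons.2 ⟨ok_gX_3_2,
  List.forall_mem_cons.2 ⟨ok_gX_5_0, List.forall_mem_cons.2 ⟨ok_gX_7_0, List.forall_mem_cons.2 ⟨ok_gX_11_0,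
  List.forall_mem_cons.2 ⟨ok_gX_13_0, List.forall_mem_cons.2 ⟨ok_gX_17_0, List.forall_mem_cons.2 ⟨ok_gX_23_0,
  List.forall_mem_cons.2 ⟨ok_gX_29_0, List.forall_mem_nil _⟩⟩⟩⟩⟩⟩⟩⟩⟩⟩⟩⟩⟩

/-- certificates -/
noncomputable def bX_2_0 : ℕ × ℕ × List Cert :=
  (by
  refine (?fq9020 : (fun (On : (n : Nat) → OfNat Nat n → Nat) (In : (n : Nat) → OfNat Nat n) => ((_root_.Prod.mk (pk61o On In (nat_lit 2)) (_root_.Prod.mk (pk61o On In (nat_lit 21)) (pk61l_v1 (fun i1 => (_root_.Cfsg.Agent.TAB.Eng.Cert.mk (pk61o On In (pk61d_v1 (nat_lit 6) 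
    (nat_lit 0x36d09) i1)) ((fun g1 : Nat → Nat => pk61l_v1 (fun i2 => (pk61f_v1 (pk61d_v1 (nat_lit 5) 
    (nat_lit 0x107b9ac62d405a9294010731483104073148310400) i2) fun u15 => (pk61f_v1 (pk61d_v1 (nat_lit 2) 
    (nat_lit 0x2aa54a94aaaa95554) i2) fun t2_5 => (pk61c_v1 (Nat.div t2_5 (nat_lit 1)) _root_.Cfsg.Agent.TAB.Eng.Op.one fun _ => (pk61c_v1 (Nat.div t2_5 (nat_lit 2)) (_root_.Cfsg.Agent.TAB.Eng.Op.gen (pk61o On In (pk61d_v1 (nat_lit 4) 
    (nat_lit 0x4304232094320) u15)) (pk61o On In (pk61d_v1 (nat_lit 2) 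
    (nat_lit 0x155fd55) u15)) (pk61o On In (nat_lit 0))) fun _ => (_root_.Cfsg.Agent.TAB.Eng.Op.lin ((fun g2 : Nat → Nat => pk61l_v1 (fun i3 => (_root_.Prod.mk (pk61o On In (pk61d_v1 (nat_lit 21) 
    (nat_lit 0x62aaab0000cf7fff9d5559dfffe00001eaaaaf80000200014000088000000006ffffe0000400000fffffc000020000163f5af174e297137f7cb8fb4d9fdffcdec1165d555f73bc7e97b59ded0aa84f720002f560796ffacdabd62aac6295efa0001266da220291fbc7c67bb0b4fb2d4da07c12ba975815515c5ff6dc8c4b51ea8b8e476aad3eb2aaaab7feb56f8fa333bceda7a24001a41df3000071ee7dc0001012e6) i3)) (pk61o On In (pk61d_v1 (nat_lit 5) 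
    (nat_lit 0x1ca6190a118022190430045073d8d7296c6a12a5b0874254b194c742542190a63a12008864298e8) i3)))) (g2 u15) (g2 (Nat.succ u15)) List.nil) fun j => (pk61d_v1 (nat_lit 6) 
    (nat_lit 0xffef39df3cb0b6caa78de611240) j)))))))) (g1 i1) (g1 (Nat.succ i1)) List.nil) fun j => (pk61d_v1 (nat_lit 6) 
    (nat_lit 0x858480) j)) ((fun g1 : Nat → Nat => pk61l_v1 (fun i2 => (_root_.Prod.mk (pk61o On In (pk61d_v1 (nat_lit 4) 
    (nat_lit 0x43210210876543210) i2)) (pk61o On In (pk61d_v1 (nat_lit 21) 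
    (nat_lit 0x100000000040000400001000001000010000100000200020000100000800008000040000400001000004000001) i2)))) (g1 i1) (g1 (Nat.succ i1)) List.nil) fun j => (pk61d_v1 (nat_lit 5) 
    (nat_lit 0x8b120) j)))) (nat_lit 0) (nat_lit 3) List.nil))) : ℕ × ℕ × List Cert))
    = ?xq9020 → (ℕ × ℕ × List Cert)) ?hq9020; (case hq9020 => (set_option maxRecDepth 1000000 in conv => lhs; reduce)); intro _; exact ?xq9020 (@OfNat.ofNat Nat) instOfNatNat : ℕ × ℕ × List Cert)

theorem ok_bX_2_0 : chkQ DX bX_2_0.1 bX_2_0.2.1 (bX_2_0.1 ^ bX_2_0.2.1) seedsX bX_2_0.2.2 (cmbs colsX (rels lvX [] ++ exX)) (rels lvX [] ++ exX).length = true := by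
  decide +kernel

/-- certificates -/
noncomputable def bX_3_0 : ℕ × ℕ × List Cert :=
  (by
  refine (?fq9021 : (fun (On : (n : Nat) → OfNat Nat n → Nat) (In : (n : Nat) → OfNat Nat n) => ((_root_.Prod.mk (pk61o On In (nat_lit 3)) (_root_.Prod.mk (pk61o On In (nat_lit 17)) (pk61l_v1 (fun i1 => (_root_.Cfsg.Agent.TAB.Eng.Cert.mk (pk61o On In (pk61d_v1 (nat_lit 7) 
    (nat_lit 0xb2ac982) i1)) ((fun g1 : Nat → Nat => pk61l_v1 (fun i2 => (pk61f_v1 (pk61d_v1 (nat_lit 6) 
    (nat_lit 0x8e28606585c07de75c5955006da6585d65544d24d24503ce34c2c04503ce34c2ca2481c61440c20401440c2040289207185103081000) i2) fun u15 => (pk61f_v1 (pk61d_v1 (nat_lit 2) 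
    (nat_lit 0xff54ff54fffff55554fffffffffaaa555554) i2) fun t2_5 => (pk61c_v1 (Nat.div t2_5 (nat_lit 2)) (pk61c_v1 (Nat.div t2_5 (nat_lit 1)) _root_.Cfsg.Agent.TAB.Eng.Op.one fun _ => (_root_.Cfsg.Agent.TAB.Eng.Op.gen (pk61o On In (pk61d_v1 (nat_lit 4) 
    (nat_lit 0x76276220a96432094320964320) u15)) (pk61o On In (pk61d_v1 (nat_lit 3) 
    (nat_lit 0x12249b49249292489249) u15)) (pk61o On In (nat_lit 0)))) fun _ => (pk61c_v1 (Nat.div t2_5 (nat_lit 3)) (_root_.Cfsg.Agent.TAB.Eng.Op.mul (pk61o On In (pk61d_v1 (nat_lit 4) 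
    (nat_lit 0xeedcba) u15)) (pk61o On In (pk61d_v1 (nat_lit 4) 
    (nat_lit 0xc9aaaa) u15))) fun _ => (_root_.Cfsg.Agent.TAB.Eng.Op.lin ((fun g2 : Nat → Nat => pk61l_v1 (fun i3 => (_root_.Prod.mk (pk61o On In (pk61d_v1 (nat_lit 27) 
    (nat_lit 0x5446a50d21ae81a435d0933e4e6b5517910000001511a9420000004000001207ffbea9e2571486ba15486ba38000001e659b5e000006c5dd59b80000033249eabd52c09fd942e10000009bcd77c737ffd8544c574743d669132869b172847e31f6bda90d744a435cf1eca170a90d74b29c3db22fe5e1311af081da6283e459c631b5e4d6123eed586ad32290d7416bd0955a2a730d9e1e90dffa9875a149339ed428378de873fd10d0dd87af7d5e0eb8246733dd1f23cd1778c000000070e9ae1800001b865a932000000f1a63d59eca173db7df3295f18932cf1f00401d3f446bc1b82722c882bd1ccea8fe99d51fd251df08a38257bab7cdee0a8f8178f20a0dd81884a98c6026a4bbe5d3b8eb511af06517d763d50d90d3b704d681cc830502f2b411629aef7f93a7a10e8e8ee0fa16fc61eef3b95fa656a6d1f7cce2073c0d7f42faf39d378980440dc3ad389b0e6c72ad7161ce7ce6c356de353bb13042f574f4c0c7a02ce2c004d62ef2250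52243a22a59057dc2ece003578c0ac99d94ccc8b16d6e0caaa62619cc332c538b2c5be2e2e604ab574ca18d36f5521ae8245d1a2739b7ab337fadf53df44954976b8b191e89818b2236c08531bb5d791db7510df3dee8c587bd6ea339ad0993e343113da37724d89d79a5fa11d2d72304b0c657f6da60030e8569c3496f2921067e7de3878330094fe6a3446cbf306aa348fa8b08ab296b9f13ee79826e42cd079ff152d85b2bcb465b8496737db41ab9ec8db44ae3dc27cb2cd5bc4c0cb048006e99284db7b22bd1691b8650209193d88385d7678a1784d799546a95020aa7c18504a2426127db68cfc8c9fbaf7629c3b7c4fa44dfe575ceaa08b31c5afdddcc97b1ccbe509479be327947488a221dca8451e36d0f57e55547baea8796d5441fc853b799ae767068e86f41a01c872c2ba3a88e43bcad5235d3385b89fe6befd2c2d559b8aa2ee06ef293b08d584bea42a5a2bef73a9a95d0564c88f159f5fd3d171e14886f219ab89cc45106bc28cffb61) i3)) (pk61o On In (pk61d_v1 (nat_lit 6) 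
    (nat_lit 0x60c31000460c31000420d241139028d38f28c1c824b30824a30418720928b0461c82800420c41461c82628217a059d7d86dc75e55a6dd55661969c4d76196c945259761a30d4114935565d864c3d04524d45565d830d38f41149351559728b30d38f41149351558520928b30d38f41149351518720928b30d38f4114935031461c824a2cc34e3d04524c10841461c824a2cc34e3d045200108310518720928b30d38f411) i3)))) (g2 u15) (g2 (Nat.succ u15)) List.nil) fun j => (pk61d_v1 (nat_lit 8) 
    (nat_lit 0xdbdad9d7d5d4d3d1cdcccac8c4c2bdb9b2ada3a2a09e9b96928c8780756a5e514233231200) j)))))))) (g1 i1) (g1 (Nat.succ i1)) List.nil) fun j => (pk61d_v1 (nat_lit 7) 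
    (nat_lit 0x4880e1200) j)) ((fun g1 : Nat → Nat => pk61l_v1 (fun i2 => (_root_.Prod.mk (pk61o On In (pk61d_v1 (nat_lit 5) 
    (nat_lit 0x18820188204a0e629062082307b9ac5a928398a418820) i2)) (pk61o On In (pk61d_v1 (nat_lit 12) 
    (nat_lit 0x900300900100900300900101b00905101b01b00900900301b00105100901b01b00901b88b0f30f305101b01b00905101b00301b001) i2)))) (g1 i1) (g1 (Nat.succ i1)) List.nil) fun j => (pk61d_v1 (nat_lit 6) 
    (nat_lit 0x2481c480) j)))) (nat_lit 0) (nat_lit 4) List.nil))) : ℕ × ℕ × List Cert))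
    = ?xq9021 → (ℕ × ℕ × List Cert)) ?hq9021; (case hq9021 => (set_option maxRecDepth 1000000 in conv => lhs; reduce)); intro _; exact ?xq9021 (@OfNat.ofNat Nat) instOfNatNat : ℕ × ℕ × List Cert)

theorem ok_bX_3_0 : chkQ DX bX_3_0.1 bX_3_0.2.1 (bX_3_0.1 ^ bX_3_0.2.1) seedsX bX_3_0.2.2 (cmbs colsX (rels lvX [] ++ exX)) (rels lvX [] ++ exX).length = true := by
  decide +kernel

/-- the certificates -/
noncomputable def bX : List (ℕ × ℕ × List Cert) :=
  [bX_2_0, bX_3_0]

theorem ok_bX : ∀ y ∈ bX, chkQ DX y.1 y.2.1 (y.1 ^ y.2.1) seedsX y.2.2 (cmbs colsX (rels lvX [] ++ exX)) (rels lvX [] ++ exX).length = true :=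
  List.forall_mem_cons.2 ⟨ok_bX_2_0, List.forall_mem_cons.2 ⟨ok_bX_3_0, List.forall_mem_nil _⟩⟩

/-- the primes and the nontrivial sections -/
noncomputable def PLX : List (ℕ × ℕ × List ℕ) :=
  (by
  refine (?fq9022 : (fun (On : (n : Nat) → OfNat Nat n → Nat) (In : (n : Nat) → OfNat Nat n) => ((pk61l_v1 (fun i1 => (_root_.Prod.mk (pk61o On In (pk61d_v1 (nat_lit 5) 
    (nat_lit 0x1dbc5ab39462) i1)) (_root_.Prod.mk (pk61o On In (pk61d_v1 (nat_lit 5) 
    (nat_lit 0x10842118a35) i1)) ((fun g1 : Nat → Nat => pk61l_v1 (fun i2 => (pk61o On In (pk61d_v1 (nat_lit 8) 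
    (nat_lit 0x100010001000c09050401000b0a05040100262524231413100f0c090807050403020100504f38372928262524231211100f0b0a090807050403020100918a87837a78727062605956543e3c3a302e2c2b2813110f0d0402007776745d5c5b5a55543f3e383736353433322b2a292814130c0b0a090807060100) i2))) (g1 i1) (g1 (Nat.succ i1)) List.nil) fun j => (pk61d_v1 (nat_lit 7) 
    (nat_lit 0x3d78edd3768acf5080) j))))) (nat_lit 0) (nat_lit 9) List.nil) : List (ℕ × ℕ × List ℕ)))
    = ?xq9022 → (List (ℕ × ℕ × List ℕ))) ?hq9022; (case hq9022 => (set_option maxRecDepth 1000000 in conv => lhs; reduce)); intro _; exact ?xq9022 (@OfNat.ofNat Nat) instOfNatNat : List (ℕ × ℕ × List ℕ))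

theorem okPLX : okPrimes DX PLX = true := by decide +kernel

theorem allX : (PLX.all fun x => x.2.2.all fun t => hasQ gX x.1 t || hasQ bX x.1 t) = true := by decide +kernel

end Cfsg.Agent.TAB.F24
end

-- part: TAB/F24/Cov
section
set_option linter.all false
open scoped Cfsg.Agent.FastGrp

/-!
# The characters of odd degree of `3.Fi₂₄'` (helper16, TAB)
-/

set_option autoImplicit false
set_option maxRecDepth 100000

namespace Cfsg.Agent.TAB.F24

open Cfsg Cfsg.Agent.TAB.Eng Cfsg.Agent.TAB.Use Cfsg.Agent.TAB.Cov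

variable {X : Type} [Group X] [Finite X]

theorem Mn.infl (M : Mn X) {j : ℕ} (hj : j < nmT.length) : Virt M.T (nth (proj.map (rw colsT j))) :=
  have := M.finite
  virt_infl M.pi M.prj (by decide +kernel) (virtT M.mass' M.rat' M.al_al' M.vT j hj)

theorem Mn.seeds (M : Mn X) : ∀ v ∈ seedsX, Virt M.T (nth v) :=
  virt_chkSd M.mass M.rat M.al_al (List.forall_mem_cons.2 ⟨M.vX, List.forall_mem_cons.2 ⟨virt_one M.T,
    List.forall_mem_cons.2 ⟨iX0_eq ▸ M.infl (by decide), List.forall_mem_cons.2 ⟨iX1_eq ▸ M.infl (by decide),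
      List.forall_mem_cons.2 ⟨iX2_eq ▸ M.infl (by decide), List.forall_mem_nil _⟩⟩⟩⟩⟩) ok_sdX

theorem Mn.oddX (M : Mn X) : OddRat X :=
  have := M.finite
  oddRat_of_cols M.pi M.surj M.cen M.ker (M.ord ▸ pow_orderOf_eq_one M.z) M.odd M.mass okLenX
    (fun x => by
      rw [← M.prj, TD.ty_eq_zero M.mass' (by decide) (by decide +kernel) (by decide +kernel)])
    (orth_of_chkG okLenX gramX) ok_lvX okJ_lvX
    (virt_two M.mass.1 okLenX okPLX M.seeds ok_gX ok_bX allX lt_exX) ok_exX finX

/-- **the triple cover** -/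
theorem cov_of (h : In0) : OddRatCov Spor.Fi24' := by
  obtain ⟨X, _, _, ⟨M⟩⟩ := h
  exact cov_of_one S2055.result (by decide) M.surj (M.ker ▸ Subgroup.zpowers_le_of_mem M.cen)
    (by rw [M.ker, Nat.card_zpowers, M.ord]) M.perf M.oddX

end Cfsg.Agent.TAB.F24
end

-- part: TAB/F24C/Main
section
set_option linter.all false

/-!
# `Fi₂₄'` and `3.Fi₂₄'` : the tables and their consequences, without hypotheses (helper51, TAB)
-/

set_option autoImplicit false

namespace Cfsg.Agent.TAB.F24C

open Cfsg Cfsg.Agent.TAB.Eng Cfsg.Agent.TAB.Use Cfsg.Agent.TAB.F24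

theorem in0 : F24.In0 := inF24.in0

theorem tab : ∃ T : TD Spor.Fi24' DT, T.Mass ∧ Inh T ∧ Tab T tabT := F24.tab in0

theorem sig : OddSig Spor.Fi24' := sig_of in0

theorem deg : DegList Spor.Fi24' degs := deg_of in0

end Cfsg.Agent.TAB.F24C
end
end
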